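import Groth.Agent.HypSq70.Line
import Groth.Agent.S14340

/-!
# A hyperelliptic curve: the pencil, the canonical class, and self-maps over the pencil
-/

set_option autoImplicit false
set_option linter.style.haveILetI false

universe u

open CategoryTheory CategoryTheory.Limits AlgebraicGeometry

noncomputable section

namespace Groth.Agent.HypSq70

open VBLib

variable {k : Type u} [Field k] {C : Scheme.{u}} [C.Over (Spec (CommRingCat.of k))]
  [IsProper (C ↘ Spec (CommRingCat.of k))] [Smooth (C ↘ Spec (CommRingCat.of k))] [IsIntegral C]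
  (hdim : topologicalKrullDim C = 1) (κ : C ⟶ CohB1.ProjSpace 1 k)
  (hκ : κ ≫ CohB1.ProjSpace.toSpec 1 k = C ↘ Spec (CommRingCat.of k))
  [IsFinite κ] [Flat κ] (hκ2 : ∀ y : ↥(CohB1.ProjSpace 1 k), κ.finrank y = 2)

/-- The pencil. -/
abbrev pencil : C.Modules := (Scheme.Modules.pullback κ).obj (Twist.twistProjSpace 1 k 1)

omit [IsProper (C ↘ Spec (CommRingCat.of k))] [Smooth (C ↘ Spec (CommRingCat.of k))] [IsIntegral C]
  [IsFinite κ] [Flat κ] in
theorem inv_pencil : PicF.IsInvertible (pencil κ) :=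
  PicCl.isInvertible_pullback κ (ProjTwist.isInvertible_twistProjSpace 1 k 1)

omit [IsProper (C ↘ Spec (CommRingCat.of k))] [Smooth (C ↘ Spec (CommRingCat.of k))] [IsIntegral C]
  [IsFinite κ] [Flat κ] in
theorem inv_pow (n : ℕ) : PicF.IsInvertible (CohB1.tensorPow (pencil κ) n) :=
  AmpleLib.isInvertible_tensorPow (inv_pencil κ) n

omit [C.Over (Spec (CommRingCat.of k))] [IsProper (C ↘ Spec (CommRingCat.of k))]
  [Smooth (C ↘ Spec (CommRingCat.of k))] in
include hκ2 in
theorem map_genericPoint [IsIntegral (CohB1.ProjSpace 1 k)] :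
    κ (genericPoint C) = genericPoint (CohB1.ProjSpace 1 k) := by
  haveI : Surjective κ := Scheme.Hom.one_le_finrank_iff_surjective κ |>.mp fun y => by
    rw [hκ2]; norm_num
  refine IsGenericPoint.eq ?_ (genericPoint_spec _)
  have := (genericPoint_spec C).image κ.continuous
  rwa [Set.image_univ, Set.range_eq_univ.mpr κ.surjective, closure_univ] at this

include hdim hκ hκ2 in
theorem dg_pencil : dg k (pencil κ) = 2 := by
  obtain ⟨hPp, hPs, hPi, hPd⟩ := FFCurve.p1_facts k
  haveI := hPi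
  haveI : IsProper ((CohB1.ProjSpace 1 k) ↘ Spec (CommRingCat.of k)) := hPp
  haveI : Smooth ((CohB1.ProjSpace 1 k) ↘ Spec (CommRingCat.of k)) := hPs
  have w : κ ≫ ((CohB1.ProjSpace 1 k) ↘ Spec (CommRingCat.of k)) = C ↘ Spec (CommRingCat.of k) := hκ
  have hY := goodCurve_of_smooth (k := k) (X := CohB1.ProjSpace 1 k) hPd
  haveI := (goodCurve_of_smooth (k := k) hdim).isLocallyNoetherian
  haveI := hY.isLocallyNoetherian
  haveI : LocallyOfFinitePresentation κ := GRLocus.locallyOfFinitePresentation_of_lft κ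
  have hO := FEtCat.Rank.isFinLocFreeOfRank_of_finrank κ 2 hκ2
  have hξ := map_genericPoint κ hκ2
  have hres : κ.residueDegree (genericPoint C) = 2 := by
    have hgen : ∀ y, y = κ (genericPoint C) →
        Module.finrank ((CohB1.ProjSpace 1 k).presheaf.stalk y)
          (((Scheme.Modules.pushforward κ).obj (Coh.structureModule C)).presheaf.stalk y) =
        κ.residueDegree (genericPoint C) := by
      rintro y rfl
      exact EulerChar.finrank_stalk_push κ (fun x => EulerChar.eq_genericPoint_of_map_eq κ w hdim hPd hξ) hξ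
    rw [← hgen _ hξ.symm]
    exact rk_eq hO
  have hT := ofRank_one_of_invertible (ProjTwist.isInvertible_twistProjSpace 1 k 1)
  have z : Coh.structureModule (CohB1.ProjSpace 1 k) ≅ Twist.twistProjSpace 1 k 0 :=
    ProjTwist.twistZeroIso (CohB1.polyGrading 1 k)
  rw [← dg_eq (ofRank_one_of_invertible (inv_pencil κ)),
    EulerChar.deg_pullback κ w hdim hPd hξ hT, hres, Curv2.deg, EulerChar.euler_iso k z,
    S14340.euler_twist k 1, S14340.euler_twist k 0]
  norm_num

include hdim hκ hκ2 in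
theorem dg_pencil_pow (n : ℕ) : dg k (CohB1.tensorPow (pencil κ) n) = 2 * n := by
  rw [dg_pow k hdim (inv_pencil κ), dg_pencil hdim κ hκ hκ2]
  ring

variable [IsAlgClosed k] (g : ℕ) (hg : 2 ≤ g) (hgen : Curv2.genus k C = g)
include hdim hκ hκ2 hg hgen

theorem h1_pow_large (s : ℕ) (hs : g ≤ s) : h k (CohB1.tensorPow (pencil κ) s) 1 = 0 :=
  h1_large k hdim (inv_pow κ s) (by rw [dg_pencil_pow hdim κ hκ hκ2, hgen]; omega)

theorem h0_pow_large (s : ℕ) (hs : g ≤ s) :
    (h k (CohB1.tensorPow (pencil κ) s) 0 : ℤ) = 2 * s + 1 - g := by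
  have h1 := h1_pow_large hdim κ hκ hκ2 g hg hgen s hs
  have h2 := rr k hdim (inv_pow κ s)
  rw [dg_pencil_pow hdim κ hκ hκ2, hgen, h1] at h2
  push_cast at h2 ⊢
  omega

theorem h0_pow_small (s : ℕ) (hs : s + 1 ≤ g) : h k (CohB1.tensorPow (pencil κ) s) 0 = s + 1 := by
  haveI : GeometricallyConnected (C ↘ Spec (CommRingCat.of k)) :=
    FBase.BC.geometricallyConnected_of_isSepClosed _
  exact S14340.result k C hdim g hg hgen κ hκ hκ2 s hs

theorem h1_pow_small (s : ℕ) (hs : s + 1 ≤ g) :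
    (h k (CohB1.tensorPow (pencil κ) s) 1 : ℤ) = (g : ℤ) - s := by
  have h1 := h0_pow_small hdim κ hκ hκ2 g hg hgen s hs
  have h2 := rr k hdim (inv_pow κ s)
  rw [dg_pencil_pow hdim κ hκ hκ2, hgen, h1] at h2
  push_cast at h2 ⊢
  omega

/-- The canonical sheaf is the `(g-1)`-st power of the pencil. -/
theorem omega_iso :
    Nonempty (Omega.sheaf (C ↘ Spec (CommRingCat.of k)) ≅ CohB1.tensorPow (pencil κ) (g - 1)) := by
  haveI := FFCurve.regCurve_of_smooth (X := C) k hdim
  have hX := goodCurve_of_smooth (k := k) hdim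
  have hA := inv_pow κ (g - 1)
  obtain ⟨hD, ⟨d⟩⟩ := DualDeg.invertible_dual hA
  have hΩ := FFCurve.isInvertible_omega (X := C) k hdim
  have hΩD := AmpleLib.isInvertible_tensorMod hΩ hD
  have hh : h k (CohB1.tensorPow (pencil κ) (g - 1)) 1 = 1 := by
    have h1 := h0_pow_small hdim κ hκ hκ2 g hg hgen (g - 1) (by omega)
    have h2 := rr k hdim hA
    rw [dg_pencil_pow hdim κ hκ hκ2, hgen, h1] at h2
    omega
  rw [h, FFCurve.finrank_one_eq_dual k hdim hA ⟨d⟩ hD] at hh
  have hd0 : dg k (CohB1.tensorMod (Omega.sheaf (C ↘ Spec (CommRingCat.of k)))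
      (RefHull.dual (CohB1.tensorPow (pencil κ) (g - 1)))) = 0 := by
    have h1 := dg_tens k hdim hA hD
    rw [dg_iso k (AmpleLib.isInvertible_tensorMod hA hD) d, dg_structure,
      dg_pencil_pow hdim κ hκ hκ2] at h1
    rw [dg_tens k hdim hΩ hD, ← dg_eq (ofRank_one_of_invertible hΩ), FFCurve.deg_omega k hdim, hgen]
    omega
  obtain ⟨e⟩ := hX.iso_structure_of_section hΩD hd0 (Module.nontrivial_of_finrank_eq_succ hh)
  exact LineCalc.cancel hD (e.symm ≪≫ d.symm)

omit hg hgen [IsAlgClosed k] in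
/-- A map of the curve to itself over the pencil keeps degrees. -/
theorem dg_pullback (σ : C ⟶ C) (hσ : σ ≫ κ = κ)
    (hσp : σ ≫ (C ↘ Spec (CommRingCat.of k)) = C ↘ Spec (CommRingCat.of k))
    {E : C.Modules} (hE : PicF.IsInvertible E) : dg k ((Scheme.Modules.pullback σ).obj E) = dg k E := by
  obtain ⟨hPp, hPs, hPi, hPd⟩ := FFCurve.p1_facts k
  haveI := hPi
  haveI : IsProper ((CohB1.ProjSpace 1 k) ↘ Spec (CommRingCat.of k)) := hPp
  have w : κ ≫ ((CohB1.ProjSpace 1 k) ↘ Spec (CommRingCat.of k)) = C ↘ Spec (CommRingCat.of k) := hκ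
  have hξ := map_genericPoint κ hκ2
  have hσξ : σ (genericPoint C) = genericPoint C := by
    refine EulerChar.eq_genericPoint_of_map_eq κ w hdim hPd hξ ?_
    rw [← Scheme.Hom.comp_apply, hσ]
  have hd : ∀ {A : C.Modules}, PicF.IsInvertible A → dg k ((Scheme.Modules.pullback σ).obj A) =
      (σ.residueDegree (genericPoint C) : ℤ) * dg k A := fun {A} hA => by
    rw [← dg_eq (ofRank_one_of_invertible hA),
      ← dg_eq (ofRank_one_of_invertible (PicCl.isInvertible_pullback σ hA))]
    exact EulerChar.deg_pullback σ hσp hdim hdim hσξ (ofRank_one_of_invertible hA)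
  have h2 := hd (inv_pencil κ)
  rw [dg_iso k (PicCl.isInvertible_pullback σ (inv_pencil κ))
    ((Scheme.Modules.pullbackComp σ κ).app (Twist.twistProjSpace 1 k 1) ≪≫
      (Scheme.Modules.pullbackCongr hσ).app _), dg_pencil hdim κ hκ hκ2] at h2
  have h1 : (σ.residueDegree (genericPoint C) : ℤ) = 1 := by omega
  rw [hd hE, h1, one_mul]

end Groth.Agent.HypSq70
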