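import Groth.Agent.CurveCoh.Integral
import Groth.Agent.CurveCoh.Finite
import Groth.Agent.VBLib.Deg
import Groth.Agent.VBLib.RR
import Groth.Agent.EulerChar.Cartier
import Groth.Agent.EulerChar.Push
import Groth.Agent.CohOps.PnSmooth
import Groth.Agent.S18573
import Groth.Agent.S10829
import Groth.Agent.S4466
import Groth.Agent.GRLocus.Basic
import Groth.Agent.PicCl.Basic
import Groth.Agent.ProjTwist.Zero
import Groth.Agent.RelDiv.Cancel
import Groth.Agent.RelDiv.CurveSmooth
import Groth.Agent.ProjProper.Basic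
import Groth.Agent.PicAlg.IdealPull
import Groth.Agent.VertInter.Comp
import Groth.Agent.AbVarLib.Slices
import Groth.Agent.Cube.SeesawThm
import Groth.Agent.Cube.Connected
import Groth.Agent.PicPn.Main
import Groth.Agent.PicLaw.Calc
import Groth.Agent.HilbD.Push

/-!
# The diagonal and the graph of the involution add up to the pullback of the diagonal of the line
-/

set_option autoImplicit false
set_option linter.style.haveILetI false

universe u

open CategoryTheory CategoryTheory.Limits AlgebraicGeometry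
open CartesianMonoidalCategory MonoidalCategory
open scoped Groth.Agent.PicLaw

noncomputable section

namespace Groth.Agent.HypDiag

open PicLaw

section Gen

variable {X Y S : Scheme.{u}}

theorem comap_ker_of_isPullback {Z W : Scheme.{u}} {iX : Z ⟶ X} {t : Z ⟶ W} {g : X ⟶ Y} {iY : W ⟶ Y}
    [IsClosedImmersion iY] (h : IsPullback iX t g iY) : iY.ker.comap g = iX.ker := by
  rw [← Scheme.IdealSheafData.ker_fst_of_isClosedImmersion iY g, ← h.isoPullback_hom_fst,
    Scheme.Hom.ker_comp_of_isIso]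

theorem deg_of_closedImmersion (i : X ⟶ Y) [IsClosedImmersion i] (f : Y ⟶ S) {d : ℕ}
    (h : Mor2.IsFinLocFreeOfDeg d (i ≫ f)) : Mor2.IsFinLocFreeOfDeg d (i.ker.subschemeι ≫ f) := by
  obtain ⟨⟨h1, h2, h3⟩, h4⟩ := h
  haveI := h1; haveI := h2; haveI := h3
  haveI : IsIso i.toImage := inferInstance
  have e : i.ker.subschemeι ≫ f = inv i.toImage ≫ i ≫ f := by
    rw [IsIso.eq_inv_comp]
    exact (Category.assoc _ _ _).symm.trans (congrArg (· ≫ f) i.toImage_imageι)
  rw [e]
  exact ⟨⟨inferInstance, inferInstance, inferInstance⟩, fun y => by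
    rw [Scheme.Hom.finrank_comp_left_of_isIso]; exact h4 y⟩

theorem le_ker_of_range_subset {T : Scheme.{u}} [IsReduced T] (γ : T ⟶ X) {I : X.IdealSheafData}
    (h : Set.range γ ⊆ (I.support : Set X)) : I ≤ γ.ker := by
  rw [← Scheme.IdealSheafData.map_bot γ, Scheme.IdealSheafData.le_map_iff_comap_le, le_bot_iff,
    ← Scheme.IdealSheafData.support_eq_top_iff]
  apply TopologicalSpace.Closeds.ext
  ext t
  simp only [Scheme.IdealSheafData.support_comap, TopologicalSpace.Closeds.coe_preimage, Set.mem_preimage,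
    TopologicalSpace.Closeds.coe_top, Set.mem_univ, iff_true]
  exact h ⟨t, rfl⟩

/-- The kernel pair of a morphism over `S` is the inverse image of the diagonal of its target. -/
theorem kernelPair_isPullback {C P : Scheme.{u}} (κ : C ⟶ P) (p : C ⟶ S) (i : P ⟶ S) (h : κ ≫ i = p) :
    IsPullback (pullback.lift (pullback.fst κ κ) (pullback.snd κ κ)
        (by rw [← h, pullback.condition_assoc]) : pullback κ κ ⟶ pullback p p)
      (pullback.fst κ κ ≫ κ)
      (pullback.lift (pullback.fst p p ≫ κ) (pullback.snd p p ≫ κ)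
        (by rw [Category.assoc, Category.assoc, h, pullback.condition]))
      (pullback.diagonal i) := by
  subst h
  refine (pullback_map_diagonal_isPullback κ κ i).flip.of_iso (Iso.refl _) (Iso.refl _) (Iso.refl _)
    (Iso.refl _) ?_ ?_ ?_ ?_
  all_goals (try simp)
  all_goals (apply pullback.hom_ext <;> simp [pullback.map])

end Gen

section Seesaw

/-- A class with trivial slices over the points of the second factor and on one horizontal section is
trivial. -/
theorem eq_one_of_slices {K : Type u} [Field K] [IsAlgClosed K] {X Y : Over (Spec (CommRingCat.of K))} [IsProper X.hom]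
    [GeometricallyIntegral X.hom] [LocallyOfFiniteType Y.hom] [IsReduced Y.left]
    (c : PicLoc.PicSet (X ⊗ Y).left) (x₀ : 𝟙_ (Over (Spec (CommRingCat.of K))) ⟶ X)
    (hs : ∀ y : 𝟙_ (Over (Spec (CommRingCat.of K))) ⟶ Y, PicLaw.Mumford.op (lift (𝟙 X) (toUnit X ≫ y)) c = 1)
    (h0 : PicLaw.Mumford.op (lift (toUnit Y ≫ x₀) (𝟙 Y)) c = 1) : c = 1 := by
  let π := (snd X Y).left
  have : IsProper π := Cube.Local.isProper_snd X Y
  have : Flat π := Cube.Local.flat_snd X Y
  have : GeometricallyIntegral π := show GeometricallyIntegral (pullback.snd X.hom Y.hom) from inferInstance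
  have : GeometricallyConnected π := FBase.BC.geometricallyConnected_of_geometricallyIrreducible π
  have : IsLocallyNoetherian Y.left := LocallyOfFiniteType.isLocallyNoetherian Y.hom
  have : JacobsonSpace Y.left := LocallyOfFiniteType.jacobsonSpace Y.hom
  obtain ⟨N, hN, hNc⟩ := PicGrp.exists_eq_cls c
  have hclosed := Cube.Seesaw.isClosed_trivial π hN fun w => inferInstance
  have hfib : ∀ w : Y.left, Nonempty (CohIII.fiberMod π N w ≅ Coh.structureModule (π.fiber w)) := by
    intro w
    have hsub : closedPoints Y.left ⊆ {w | Nonempty (CohIII.fiberMod π N w ≅ Coh.structureModule (π.fiber w))} :=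
      fun w hw => by
        refine (PicGrp.cls_eq_one_iff (PicLoc.isInvertible_pullback _ hN)).mp ?_
        rw [PicLaw.cls_pullback _ hN, ← hNc]
        exact (AbVarLib.Slices.fibre_iff_slice c w hw).mpr (hs _)
    have := hclosed.closure_subset_iff.mpr hsub
    rw [closure_closedPoints] at this
    exact this (Set.mem_univ w)
  obtain ⟨N', hN', hNN'⟩ := (Cube.Seesaw.pullback_iff_fibres π
    (Cube.Seesaw.finrank_eq_one_of_geometrically π) hN).mpr hfib
  have hcn : c = PicLaw.Mumford.op (snd X Y) (PicGrp.cls N' hN') := by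
    rw [hNc, PicLaw.Mumford.op, ← PicLaw.cls_pullback _ hN', PicGrp.cls_eq_cls_iff]
    exact ⟨hNN'.some.symm⟩
  rw [hcn, ← PicLaw.Mumford.op_comp, lift_snd] at h0
  rw [hcn, (PicLaw.pl_id _).symm.trans h0, map_one]

end Seesaw

section Line

variable (k : Type u) [Field k]

/-- The line as an object over the field. -/
abbrev ln : Over (Spec (CommRingCat.of k)) := Over.mk (CohB1.ProjSpace.toSpec 1 k)

/-- The projective line is an integral smooth curve. -/
theorem line_facts :
    IsProper (CohB1.ProjSpace.toSpec 1 k) ∧ Smooth (CohB1.ProjSpace.toSpec 1 k) ∧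
      IsIntegral (CohB1.ProjSpace 1 k) ∧ topologicalKrullDim (CohB1.ProjSpace 1 k) = 1 := by
  letI : (CohB1.ProjSpace 1 k).Over (Spec (CommRingCat.of k)) := ⟨CohB1.ProjSpace.toSpec 1 k⟩
  haveI : Smooth (CohB1.ProjSpace.toSpec 1 k) := CohOps.PnSmooth.smooth_toSpec 1 k
  haveI : Smooth ((CohB1.ProjSpace 1 k) ↘ Spec (CommRingCat.of k)) :=
    ‹Smooth (CohB1.ProjSpace.toSpec 1 k)›
  haveI : ∀ y : CohB1.ProjSpace 1 k, _root_.IsReduced ((CohB1.ProjSpace 1 k).presheaf.stalk y) := fun y =>
    haveI := CurveCoh.isDomain_stalk k (CohB1.ProjSpace 1 k) y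
    inferInstance
  haveI : IsReduced (CohB1.ProjSpace 1 k) := isReduced_of_isReduced_stalk _
  haveI := S18573.irreducibleSpace_projSpace 1 k
  exact ⟨ProjProper.Basic.isProper_toSpec 1 k, inferInstance,
    isIntegral_of_irreducibleSpace_of_isReduced _, by exact_mod_cast S10829.result k 1⟩

/-- The ideal class of a rational point of the line. -/
theorem cls_point [IsAlgClosed k] (y : Spec (CommRingCat.of k) ⟶ CohB1.ProjSpace 1 k)
    (hy : y ≫ CohB1.ProjSpace.toSpec 1 k = 𝟙 _) :
    ∃ hI : BlowUp.IsEffCartierIdeal y.ker,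
      PicGrp.cls (ClSub.idealMod y.ker) (IdealSh.IdealMod.isInvertible_of_isEffCartierIdeal _ hI) *
        PicGrp.cls (Twist.twistProjSpace 1 k 1) (ProjTwist.isInvertible_twistProjSpace 1 k 1) = 1 := by
  obtain ⟨hPp, hPs, hPi, hPd⟩ := line_facts k
  haveI := hPi
  letI : (CohB1.ProjSpace 1 k).Over (Spec (CommRingCat.of k)) := ⟨CohB1.ProjSpace.toSpec 1 k⟩
  haveI : IsProper ((CohB1.ProjSpace 1 k) ↘ Spec (CommRingCat.of k)) := hPp
  haveI : Smooth ((CohB1.ProjSpace 1 k) ↘ Spec (CommRingCat.of k)) := hPs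
  haveI := RelDiv.CurveSmooth.smoothOfRelativeDimension_one (k := k) (X := CohB1.ProjSpace 1 k) hPd
  let f := (CohB1.ProjSpace 1 k) ↘ Spec (CommRingCat.of k)
  have hyf : y ≫ f = 𝟙 _ := hy
  haveI : IsClosedImmersion (y ≫ f) := by rw [hyf]; infer_instance
  haveI : IsClosedImmersion y := IsClosedImmersion.of_comp y f
  have hdeg := deg_of_closedImmersion y f (d := 1) (by
    rw [hyf]; exact HilbD.isFinLocFreeOfDeg_one_of_isIso _)
  have hI := RelDiv.cartier_of_div (f := f) hdeg.1
  refine ⟨hI, ?_⟩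
  have hIi := IdealSh.IdealMod.isInvertible_of_isEffCartierIdeal _ hI
  obtain ⟨A, hA, hAI⟩ := PicLaw.exists_inverse hIi
  obtain ⟨d, ⟨e⟩⟩ := PicPn.exists_iso_twist (n := 1) (K := k) hA
  have hinv : CohB1.tensorMod A (ClSub.idealMod y.ker) ≅ Coh.structureModule _ :=
    ((PicLaw.iso_iff (PicLaw.isInvertible_tensor hA hIi) (PicLoc.isInvertible_structureModule _)).2 (by
      rw [PicLaw.cls_tensor hA hIi, _root_.mul_comm, ← PicLaw.cls_tensor hIi hA]
      exact (PicLaw.iso_iff _ _).1 hAI)).some
  have h1 := EulerChar.deg_inverse_ideal y.ker k hPd.le hI hA hinv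
  have h0 : Module.finrank k (Coh.HH (CohB1.ProjSpace 1 k) (ClSub.quotMod y.ker) 0) = 1 := by
    letI : y.ker.subscheme.Over (Spec (CommRingCat.of k)) := ⟨y.ker.subschemeι ≫ f⟩
    have hw : y.ker.subschemeι ≫ ((CohB1.ProjSpace 1 k) ↘ Spec (CommRingCat.of k)) =
        y.ker.subscheme ↘ Spec (CommRingCat.of k) := rfl
    obtain ⟨E⟩ := EulerChar.nonempty_pushEquiv y.ker.subschemeι (A := k) hw (Coh.structureModule y.ker.subscheme)
      (ProjTwist.isQuasicoherent_structureModule _) 0
    haveI : IsIso y.toImage := inferInstance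
    haveI : Nonempty y.ker.subscheme := ⟨y.toImage (IsLocalRing.closedPoint k)⟩
    haveI : IsIntegral y.ker.subscheme := isIntegral_of_isOpenImmersion (inv y.toImage)
    haveI : IsProper (y.ker.subscheme ↘ Spec (CommRingCat.of k)) :=
      inferInstanceAs (IsProper (y.ker.subschemeι ≫ f))
    rw [E.finrank_eq, VBLib.finrank_H0_structure_eq_one VBLib.bijective_toGlobal_of_isAlgClosed]
  have z : Coh.structureModule (CohB1.ProjSpace 1 k) ≅ Twist.twistProjSpace 1 k 0 :=
    ProjTwist.twistZeroIso (CohB1.polyGrading 1 k)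
  rw [h0, Curv2.deg, EulerChar.euler_iso k e, EulerChar.euler_iso k z] at h1
  have hχ : ∀ n : ℤ, Curv2.euler k (CohB1.ProjSpace 1 k) (Twist.twistProjSpace 1 k n) = n + 1 := fun n => by
    haveI : (Twist.twistProjSpace 1 k n).IsQuasicoherent :=
      ProjTwist.isQCoh_of_isInvertible (ProjTwist.isInvertible_twistProjSpace 1 k n)
    rw [CurveCoh.euler_eq _ (VBLib.goodCurve_of_smooth (k := k) (X := CohB1.ProjSpace 1 k) hPd).val hPd]
    have h := S4466.result k 1 one_pos n
    simp only [Finset.sum_range_succ, Finset.sum_range_zero, zero_add, pow_zero, pow_one, one_mul, neg_mul,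
      Ring.choose_one_right, Nat.cast_one] at h
    linarith
  rw [hχ, hχ] at h1
  obtain rfl : d = 1 := by push_cast at h1; linarith
  rw [← (PicLaw.iso_iff hA (ProjTwist.isInvertible_twistProjSpace 1 k 1)).1 ⟨e⟩, ← cls_tensor hIi hA, ← cls_one]
  exact (iso_iff _ _).1 hAI

/-- The diagonal of the line has class `O(-1, -1)`. -/
theorem cls_diag [IsAlgClosed k] :
    ∃ hI : BlowUp.IsEffCartierIdeal (pullback.diagonal (CohB1.ProjSpace.toSpec 1 k)).ker,
      PicGrp.cls (ClSub.idealMod (pullback.diagonal (CohB1.ProjSpace.toSpec 1 k)).ker)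
          (IdealSh.IdealMod.isInvertible_of_isEffCartierIdeal _ hI) *
        (pl (pullback.fst _ _) (PicGrp.cls (Twist.twistProjSpace 1 k 1) (ProjTwist.isInvertible_twistProjSpace 1 k 1)) *
         pl (pullback.snd _ _) (PicGrp.cls (Twist.twistProjSpace 1 k 1) (ProjTwist.isInvertible_twistProjSpace 1 k 1)))
        = 1 := by
  obtain ⟨hPp, hPs, hPi, hPd⟩ := line_facts k
  letI : (CohB1.ProjSpace 1 k).Over (Spec (CommRingCat.of k)) := ⟨CohB1.ProjSpace.toSpec 1 k⟩
  haveI := hPi
  haveI : IsProper (CohB1.ProjSpace.toSpec 1 k) := hPp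
  haveI := Cube.geometricallyIntegral_of_isAlgClosed (CohB1.ProjSpace.toSpec 1 k)
  haveI : IsProper ((CohB1.ProjSpace 1 k) ↘ Spec (CommRingCat.of k)) := hPp
  haveI : Smooth ((CohB1.ProjSpace 1 k) ↘ Spec (CommRingCat.of k)) := hPs
  haveI : SmoothOfRelativeDimension 1 (CohB1.ProjSpace.toSpec 1 k) :=
    RelDiv.CurveSmooth.smoothOfRelativeDimension_one (k := k) (X := CohB1.ProjSpace 1 k) hPd
  let q := CohB1.ProjSpace.toSpec 1 k
  haveI : SmoothOfRelativeDimension 1 (pullback.fst q q) := (smoothOfRelativeDimension_isStableUnderBaseChange 1).of_isPullback (IsPullback.of_hasPullback _ _).flip inferInstance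
  have hI : BlowUp.IsEffCartierIdeal (pullback.diagonal q).ker :=
    RelDiv.cartier_of_div (f := pullback.fst q q) (deg_of_closedImmersion (pullback.diagonal q) _ (d := 1)
      (by rw [pullback.diagonal_fst]; exact HilbD.isFinLocFreeOfDeg_one_of_isIso _)).1
  refine ⟨hI, ?_⟩
  have hT := ProjTwist.isInvertible_twistProjSpace 1 k 1
  let o := PicGrp.cls (Twist.twistProjSpace 1 k 1) hT
  have htriv : ∀ c : PicLoc.PicSet (Spec (CommRingCat.of k)), c = 1 := fun c => by
    obtain ⟨L, hL, rfl⟩ := exists_cls_eq c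
    exact by
      haveI : Subsingleton ↥(Spec (CommRingCat.of k)) := inferInstanceAs (Subsingleton (PrimeSpectrum k))
      haveI : Nonempty ↥(Spec (CommRingCat.of k)) := inferInstanceAs (Nonempty (PrimeSpectrum k))
      exact (PicGrp.cls_eq_one_iff hL).mpr (PicLaw.nonempty_iso_of_subsingleton hL)
  have slice : ∀ (y : Spec (CommRingCat.of k) ⟶ CohB1.ProjSpace 1 k), y ≫ q = 𝟙 _ →
      ∀ (j : CohB1.ProjSpace 1 k ⟶ pullback q q),
      (j ≫ pullback.fst q q = 𝟙 _ ∧ j ≫ pullback.snd q q = q ≫ y) ∨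
      (j ≫ pullback.fst q q = q ≫ y ∧ j ≫ pullback.snd q q = 𝟙 _) →
      pl j (PicGrp.cls (ClSub.idealMod (pullback.diagonal q).ker)
          (IdealSh.IdealMod.isInvertible_of_isEffCartierIdeal _ hI) *
        (pl (pullback.fst q q) o * pl (pullback.snd q q) o)) = 1 := by
    intro y hy j hj
    obtain ⟨hyI, hyc⟩ := cls_point k y hy
    haveI : IsClosedImmersion (y ≫ q) := by rw [hy]; infer_instance
    haveI : IsClosedImmersion y := IsClosedImmersion.of_comp y q
    have hsq : IsPullback y y j (pullback.diagonal q) := by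
      refine IsPullback.mk ⟨?_⟩ ⟨PullbackCone.IsLimit.mk _ (fun s => s.fst ≫ q) ?_ ?_ ?_⟩
      · apply pullback.hom_ext <;> rcases hj with ⟨h1, h2⟩ | ⟨h1, h2⟩ <;>
          simp [h1, h2, reassoc_of% hy]
      · intro s
        have a1 := congrArg (· ≫ pullback.fst q q) s.condition
        have a2 := congrArg (· ≫ pullback.snd q q) s.condition
        rcases hj with ⟨h1, h2⟩ | ⟨h1, h2⟩ <;> simp [h1, h2] at a1 a2 <;>
          simp only [Category.assoc] <;> first
          | exact a2.trans a1.symm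
          | exact a1.trans a2.symm
          | exact a1
          | exact a2
      · intro s
        have a1 := congrArg (· ≫ pullback.fst q q) s.condition
        have a2 := congrArg (· ≫ pullback.snd q q) s.condition
        rcases hj with ⟨h1, h2⟩ | ⟨h1, h2⟩ <;> simp [h1, h2] at a1 a2 <;>
          simp only [Category.assoc] <;> first
          | exact a2.trans a1.symm
          | exact a1.trans a2.symm
          | exact a1
          | exact a2
      · intro s m h1 h2
        simp [← h1, hy]
    have hc := comap_ker_of_isPullback hsq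
    have hyI' : BlowUp.IsEffCartierIdeal ((pullback.diagonal q).ker.comap j) := by rw [hc]; exact hyI
    have hiso := PicAlg.nonempty_pullback_idealMod j _ hI hyI'
    rw [map_mul, map_mul, ← cls_pullback j (IdealSh.IdealMod.isInvertible_of_isEffCartierIdeal _ hI),
      ← pl_comp, ← pl_comp]
    rw [(iso_iff (PicLoc.isInvertible_pullback j (IdealSh.IdealMod.isInvertible_of_isEffCartierIdeal _ hI)) (IdealSh.IdealMod.isInvertible_of_isEffCartierIdeal _ hyI)).1
      ⟨hiso.some ≪≫ eqToIso (by rw [hc])⟩]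
    rcases hj with ⟨h1, h2⟩ | ⟨h1, h2⟩
    · rw [pl_congr h1, pl_congr h2, pl_id, pl_comp q y, htriv (pl y o), map_one, mul_one]
      exact hyc
    · rw [pl_congr h1, pl_congr h2, pl_id, pl_comp q y, htriv (pl y o), map_one, one_mul]
      exact hyc
  let P := ln k
  haveI : IsProper P.hom := hPp
  haveI : GeometricallyIntegral P.hom := Cube.geometricallyIntegral_of_isAlgClosed q
  haveI : LocallyOfFiniteType P.hom := inferInstanceAs (LocallyOfFiniteType q)
  haveI : IsReduced P.left := inferInstanceAs (IsReduced (CohB1.ProjSpace 1 k))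
  haveI : JacobsonSpace ↥(CohB1.ProjSpace 1 k) := LocallyOfFiniteType.jacobsonSpace q
  obtain ⟨z, hz⟩ := nonempty_inter_closedPoints (X := ↥(CohB1.ProjSpace 1 k)) Set.univ_nonempty
    isClosed_univ.isLocallyClosed
  let y₀ := pointOfClosedPoint q z hz.2
  have hy₀ : y₀ ≫ q = 𝟙 _ := pointOfClosedPoint_comp _ _ _
  let x₀ : 𝟙_ (Over (Spec (CommRingCat.of k))) ⟶ P := Over.homMk y₀ hy₀
  refine eq_one_of_slices (X := P) (Y := P) _ x₀ (fun y => ?_) ?_
  · refine slice y.left (Over.w y) _ (Or.inl ⟨?_, ?_⟩)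
    · exact congrArg CommaMorphism.left (lift_fst (𝟙 P) (toUnit P ≫ y))
    · exact congrArg CommaMorphism.left (lift_snd (𝟙 P) (toUnit P ≫ y))
  · refine slice y₀ hy₀ _ (Or.inr ⟨?_, ?_⟩)
    · exact congrArg CommaMorphism.left (lift_fst (toUnit P ≫ x₀) (𝟙 P))
    · exact congrArg CommaMorphism.left (lift_snd (toUnit P ≫ x₀) (𝟙 P))

end Line

section Curve

variable {k : Type u} [Field k] [IsAlgClosed k] {C : Scheme.{u}} [C.Over (Spec (CommRingCat.of k))]
  [IsProper (C ↘ Spec (CommRingCat.of k))] [Smooth (C ↘ Spec (CommRingCat.of k))] [IsIntegral C]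

/-- The square of the curve. -/
abbrev Sq (k : Type u) [Field k] (C : Scheme.{u}) [C.Over (Spec (CommRingCat.of k))] : Scheme.{u} :=
  pullback (C ↘ Spec (CommRingCat.of k)) (C ↘ Spec (CommRingCat.of k))

/-- The graph of an endomorphism. -/
abbrev gr (σ : C ⟶ C) (hσp : σ ≫ (C ↘ Spec (CommRingCat.of k)) = C ↘ Spec (CommRingCat.of k)) : C ⟶ Sq k C :=
  pullback.lift (𝟙 C) σ ((Category.id_comp (C ↘ Spec (CommRingCat.of k))).trans hσp.symm)

omit [IsAlgClosed k] [Smooth (C ↘ Spec (CommRingCat.of k))] [IsIntegral C] in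
theorem isClosedImmersion_gr (σ : C ⟶ C) (hσp : σ ≫ (C ↘ Spec (CommRingCat.of k)) = C ↘ Spec (CommRingCat.of k)) :
    IsClosedImmersion (gr σ hσp) := by
  haveI : IsClosedImmersion (gr σ hσp ≫ pullback.fst (C ↘ Spec (CommRingCat.of k)) (C ↘ Spec (CommRingCat.of k))) := by
    rw [pullback.lift_fst]; infer_instance
  exact IsClosedImmersion.of_comp (gr σ hσp)
    (pullback.fst (C ↘ Spec (CommRingCat.of k)) (C ↘ Spec (CommRingCat.of k)))

variable {κ : C ⟶ CohB1.ProjSpace 1 k} [IsFinite κ] [Flat κ] {σ : C ⟶ C}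
  {hσp : σ ≫ (C ↘ Spec (CommRingCat.of k)) = C ↘ Spec (CommRingCat.of k)}
  (hdim : topologicalKrullDim C = 1)
  (hκ : κ ≫ CohB1.ProjSpace.toSpec 1 k = C ↘ Spec (CommRingCat.of k))
  (hκ2 : ∀ y : ↥(CohB1.ProjSpace 1 k), κ.finrank y = 2) (hσ : σ ≫ κ = κ)

include hdim hκ hκ2 hσ

/-- The inverse image of the diagonal of the line is the diagonal plus the graph. -/
theorem kernelPair_ker (hσ1 : σ ≠ 𝟙 C) :
    ∃ (hD : BlowUp.IsEffCartierIdeal (pullback.diagonal (C ↘ Spec (CommRingCat.of k))).ker)
      (hG : BlowUp.IsEffCartierIdeal (gr σ hσp).ker),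
      (pullback.diagonal (CohB1.ProjSpace.toSpec 1 k)).ker.comap
        (pullback.lift (pullback.fst (C ↘ Spec (CommRingCat.of k)) (C ↘ Spec (CommRingCat.of k)) ≫ κ)
          (pullback.snd (C ↘ Spec (CommRingCat.of k)) (C ↘ Spec (CommRingCat.of k)) ≫ κ)
          (by rw [Category.assoc, Category.assoc, hκ, pullback.condition])) =
      (pullback.diagonal (C ↘ Spec (CommRingCat.of k))).ker * (gr σ hσp).ker := by
  let p := C ↘ Spec (CommRingCat.of k)
  haveI : SmoothOfRelativeDimension 1 p := RelDiv.CurveSmooth.smoothOfRelativeDimension_one (k := k) hdim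
  haveI : SmoothOfRelativeDimension 1 (pullback.fst p p) := (smoothOfRelativeDimension_isStableUnderBaseChange 1).of_isPullback (IsPullback.of_hasPullback _ _).flip inferInstance
  have hone : ∀ (s : C ⟶ Sq k C), IsClosedImmersion s → s ≫ pullback.fst p p = 𝟙 C →
      Mor2.IsFinLocFreeOfDeg 1 (s.ker.subschemeι ≫ pullback.fst p p) := fun s hs h => by
    haveI := hs
    exact deg_of_closedImmersion s _ (by rw [h]; exact HilbD.isFinLocFreeOfDeg_one_of_isIso _)
  haveI := isClosedImmersion_gr σ hσp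
  have hΔ := hone (pullback.diagonal p) inferInstance (pullback.diagonal_fst p)
  have hΓ := hone (gr σ hσp) inferInstance (pullback.lift_fst _ _ _)
  refine ⟨RelDiv.cartier_of_div hΔ.1, RelDiv.cartier_of_div hΓ.1, ?_⟩
  let m : pullback κ κ ⟶ Sq k C := pullback.lift (pullback.fst κ κ) (pullback.snd κ κ)
    (by rw [← hκ, pullback.condition_assoc])
  have hsq := kernelPair_isPullback κ p (CohB1.ProjSpace.toSpec 1 k) hκ
  haveI : IsProper (CohB1.ProjSpace.toSpec 1 k) := ProjProper.Basic.isProper_toSpec 1 k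
  haveI : IsClosedImmersion m := MorphismProperty.of_isPullback hsq.flip inferInstance
  rw [comap_ker_of_isPullback hsq]
  show m.ker = _
  haveI : LocallyOfFiniteType (CohB1.ProjSpace.toSpec 1 k) := inferInstance
  haveI : IsLocallyNoetherian (CohB1.ProjSpace 1 k) :=
    LocallyOfFiniteType.isLocallyNoetherian (CohB1.ProjSpace.toSpec 1 k)
  haveI : LocallyOfFinitePresentation κ := GRLocus.locallyOfFinitePresentation_of_lft κ
  have hm : Mor2.IsFinLocFreeOfDeg 2 (m.ker.subschemeι ≫ pullback.fst p p) := by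
    refine deg_of_closedImmersion m _ ?_
    rw [pullback.lift_fst]
    exact ⟨⟨inferInstance, inferInstance, inferInstance⟩, fun y => by
      rw [Scheme.Hom.finrank_pullback_fst]; exact hκ2 _⟩
  have le1 : ∀ (s : C ⟶ Sq k C) (l : C ⟶ pullback κ κ), l ≫ m = s → m.ker ≤ s.ker := fun s l h =>
    h ▸ Scheme.Hom.le_ker_comp l m
  have hmΔ : m.ker ≤ (pullback.diagonal p).ker := le1 _ (pullback.diagonal κ) (by
    apply pullback.hom_ext
    · exact (Category.assoc _ _ _).trans ((congrArg _ (pullback.lift_fst _ _ _)).trans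
        ((pullback.diagonal_fst κ).trans (pullback.diagonal_fst p).symm))
    · exact (Category.assoc _ _ _).trans ((congrArg _ (pullback.lift_snd _ _ _)).trans
        ((pullback.diagonal_snd κ).trans (pullback.diagonal_snd p).symm)))
  have hmΓ : m.ker ≤ (gr σ hσp).ker := le1 _ (pullback.lift (𝟙 C) σ (by rw [hσ, Category.id_comp]))
    (by
      apply pullback.hom_ext
      · exact (Category.assoc _ _ _).trans ((congrArg _ (pullback.lift_fst _ _ _)).trans
          ((pullback.lift_fst _ _ _).trans (pullback.lift_fst _ _ _).symm))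
      · exact (Category.assoc _ _ _).trans ((congrArg _ (pullback.lift_snd _ _ _)).trans
          ((pullback.lift_snd _ _ _).trans (pullback.lift_snd _ _ _).symm)))
  obtain ⟨K, hK, e⟩ := RelDiv.exists_step hmΔ hΔ hm
  rw [e]
  congr 1
  refine RelDiv.eq_of_le_of_deg (f := pullback.fst p p) ?_ hΓ hK
  have hsub : Set.range (gr σ hσp) ⊆ ((pullback.diagonal p).ker.support : Set ↥(Sq k C)) ∪ (K.support : Set _) := by
    have h0 := Scheme.IdealSheafData.support_antitone hmΓ
    rw [e, Scheme.IdealSheafData.support_mul] at h0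
    intro z hz
    have hz' : z ∈ (gr σ hσp).ker.support := by
      rw [← SetLike.mem_coe, Scheme.Hom.support_ker]
      exact subset_closure hz
    exact h0 hz'
  have hirr : IsPreirreducible (Set.range (gr σ hσp)) := by
    rw [← Set.image_univ]
    exact (PreirreducibleSpace.isPreirreducible_univ).image _ (gr σ hσp).continuous.continuousOn
  rcases (isPreirreducible_iff_isClosed_union_isClosed.mp hirr) _ _ (pullback.diagonal p).ker.support.isClosed
      K.support.isClosed hsub with h | h
  · exfalso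
    apply hσ1
    have hle := le_ker_of_range_subset (gr σ hσp) h
    let l := IsClosedImmersion.lift (pullback.diagonal p) (gr σ hσp) hle
    have hl : l ≫ pullback.diagonal p = gr σ hσp := IsClosedImmersion.lift_fac _ _ hle
    have h1 : l = 𝟙 C :=
      (Category.comp_id l).symm.trans ((congrArg (l ≫ ·) (pullback.diagonal_fst p).symm).trans
        ((Category.assoc _ _ _).symm.trans ((congrArg (· ≫ pullback.fst p p) hl).trans (pullback.lift_fst _ _ _))))
    have h2 : l = σ :=
      (Category.comp_id l).symm.trans ((congrArg (l ≫ ·) (pullback.diagonal_snd p).symm).trans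
        ((Category.assoc _ _ _).symm.trans ((congrArg (· ≫ pullback.snd p p) hl).trans (pullback.lift_snd _ _ _))))
    rw [← h2, h1]
  · exact le_ker_of_range_subset _ h

/-- `O(Δ) ⊗ O(Γ) ≅ p₁^*L ⊗ p₂^*L`. -/
theorem diag_graph_iso (hσ1 : σ ≠ 𝟙 C) {N ND : (Sq k C).Modules} (hN : PicF.IsInvertible N)
    (hNinv : ClSub.IsInverseOf N (ClSub.idealMod (gr σ hσp).ker)) (hND : PicF.IsInvertible ND)
    (hNDinv : ClSub.IsInverseOf ND (ClSub.idealMod (pullback.diagonal (C ↘ Spec (CommRingCat.of k))).ker)) :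
    Nonempty (CohB1.tensorMod ND N ≅ CohB1.tensorMod
      ((Scheme.Modules.pullback (pullback.fst (C ↘ Spec (CommRingCat.of k)) (C ↘ Spec (CommRingCat.of k)))).obj
        ((Scheme.Modules.pullback κ).obj (Twist.twistProjSpace 1 k 1)))
      ((Scheme.Modules.pullback (pullback.snd (C ↘ Spec (CommRingCat.of k)) (C ↘ Spec (CommRingCat.of k)))).obj
        ((Scheme.Modules.pullback κ).obj (Twist.twistProjSpace 1 k 1)))) := by
  obtain ⟨hD, hG, e⟩ := kernelPair_ker (hσp := hσp) hdim hκ hκ2 hσ hσ1
  obtain ⟨hL, hl⟩ := cls_diag k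
  haveI : IsLocallyNoetherian (pullback.diagonalObj (C ↘ Spec (CommRingCat.of k))) :=
    LocallyOfFiniteType.isLocallyNoetherian
      (pullback.fst (C ↘ Spec (CommRingCat.of k)) (C ↘ Spec (CommRingCat.of k)) ≫ (C ↘ Spec (CommRingCat.of k)))
  have hJ := VertInter.nonempty_idealMod_mul hD hG
  have hD' := IdealSh.IdealMod.isInvertible_of_isEffCartierIdeal _ hD
  have hG' := IdealSh.IdealMod.isInvertible_of_isEffCartierIdeal _ hG
  have hL' := IdealSh.IdealMod.isInvertible_of_isEffCartierIdeal _ hL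
  have hcart : BlowUp.IsEffCartierIdeal
      ((pullback.diagonal (C ↘ Spec (CommRingCat.of k))).ker * (gr σ hσp).ker) :=
    IdealSh.IdealMod.isEffCartierIdeal_of_isInvertible _
      (PicCl.isInvertible_of_iso hJ.some (PicLaw.isInvertible_tensor hD' hG'))
  rw [← e] at hcart
  have hp := PicAlg.nonempty_pullback_idealMod _ _ hL hcart
  rw [e] at hp
  have c1 := (iso_iff (PicLoc.isInvertible_pullback _ hL') (PicLaw.isInvertible_tensor hD' hG')).1
    ⟨hp.some ≪≫ hJ.some.symm⟩
  rw [cls_tensor hD' hG', cls_pullback _ hL'] at c1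
  have c2 := (iso_iff (PicLaw.isInvertible_tensor hND hD') (PicLoc.isInvertible_structureModule _)).1 hNDinv
  have c3 := (iso_iff (PicLaw.isInvertible_tensor hN hG') (PicLoc.isInvertible_structureModule _)).1 hNinv
  rw [cls_tensor hND hD', cls_one] at c2
  rw [cls_tensor hN hG', cls_one] at c3
  have hP := PicLoc.isInvertible_pullback κ (ProjTwist.isInvertible_twistProjSpace 1 k 1)
  have hl' := congrArg (pl (pullback.lift (pullback.fst (C ↘ Spec (CommRingCat.of k)) (C ↘ Spec (CommRingCat.of k)) ≫ κ)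
          (pullback.snd (C ↘ Spec (CommRingCat.of k)) (C ↘ Spec (CommRingCat.of k)) ≫ κ)
          (by rw [Category.assoc, Category.assoc, hκ, pullback.condition]))) hl
  rw [map_one, map_mul, map_mul, c1, ← pl_comp, ← pl_comp, pl_congr (pullback.lift_fst _ _ _),
    pl_congr (pullback.lift_snd _ _ _), pl_comp, pl_comp, ← cls_pullback κ, ← cls_pullback _ hP,
    ← cls_pullback _ hP] at hl'
  refine (iso_iff (PicLaw.isInvertible_tensor hND hN)
    (PicLaw.isInvertible_tensor (PicLoc.isInvertible_pullback _ hP) (PicLoc.isInvertible_pullback _ hP))).2 ?_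
  rw [cls_tensor hND hN, cls_tensor (PicLoc.isInvertible_pullback _ hP) (PicLoc.isInvertible_pullback _ hP)]
  have h4 := eq_inv_of_mul_eq_one_left c2
  have h5 := eq_inv_of_mul_eq_one_left c3
  rw [h4, h5, ← mul_inv, ← eq_inv_of_mul_eq_one_right hl']

end Curve

end Groth.Agent.HypDiag
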