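import Groth.Agent.HypSq70.Main
import Groth.Agent.JacPts.PicPt
import Groth.Agent.S0007

/-!
# Intersection numbers on the square of a hyperelliptic curve
-/

set_option autoImplicit false
set_option linter.style.haveILetI false

universe u

open CategoryTheory CategoryTheory.Limits AlgebraicGeometry

noncomputable section

namespace Groth.Agent.HypSq70

open VBLib

variable {k : Type u} [Field k] {C : Scheme.{u}} [C.Over (Spec (CommRingCat.of k))]

attribute [local instance] overSq

theorem intNum_pair (M M' : (Sq k C).Modules) :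
    FGA.intNum k (Sq k C) 2 ![M, M'] (Coh.structureModule (Sq k C)) =
      FGA.eulerCharLE k (Sq k C)
          (CohB1.tensorMod (Coh.structureModule (Sq k C)) (Coh.structureModule (Sq k C))) 2
        - FGA.eulerCharLE k (Sq k C)
          (CohB1.tensorMod (CohB1.tensorMod M (Coh.structureModule (Sq k C))) (Coh.structureModule (Sq k C))) 2
        - FGA.eulerCharLE k (Sq k C)
          (CohB1.tensorMod (CohB1.tensorMod M' (Coh.structureModule (Sq k C))) (Coh.structureModule (Sq k C))) 2
        + FGA.eulerCharLE k (Sq k C)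
          (CohB1.tensorMod (CohB1.tensorMod M (CohB1.tensorMod M' (Coh.structureModule (Sq k C))))
            (Coh.structureModule (Sq k C))) 2 := by
  have s0 : (∅ : Finset (Fin 2)).sort (· ≤ ·) = [] := Finset.sort_empty _
  have s1 : ({0} : Finset (Fin 2)).sort (· ≤ ·) = [0] := Finset.sort_singleton _ _
  have s2 : ({1} : Finset (Fin 2)).sort (· ≤ ·) = [1] := Finset.sort_singleton _ _
  have s3 : ({0, 1} : Finset (Fin 2)).sort (· ≤ ·) = [0, 1] := by
    rw [Finset.sort_insert _ (by simp) (by decide), Finset.sort_singleton]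
  rw [FGA.intNum, show (Finset.univ : Finset (Finset (Fin 2))) = {∅, {0}, {1}, {0, 1}} by decide]
  rw [Finset.sum_insert (by decide), Finset.sum_insert (by decide), Finset.sum_insert (by decide),
    Finset.sum_singleton, s0, s1, s2, s3]
  simp only [List.map_cons, List.map_nil, FGA.tensorList, Matrix.cons_val_zero, Matrix.cons_val_one,
    Finset.card_empty, Finset.card_singleton, Finset.card_pair (show (0 : Fin 2) ≠ 1 by decide)]
  ring

theorem iso_pow (N : (Sq k C).Modules) (r : ℕ) :
    Nonempty (CohB1.tensorPow N r ≅ T N (Coh.structureModule C) (Coh.structureModule C) r) := by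
  obtain ⟨b⟩ := box_structure (k := k) (C := C)
  exact ⟨(ProjTwist.tensCongr b (Iso.refl _) ≪≫ ProjTwist.oneTens _).symm⟩

theorem iso_fst (N : (Sq k C).Modules) (A : C.Modules) :
    Nonempty ((Scheme.Modules.pullback
      (pullback.fst (C ↘ Spec (CommRingCat.of k)) (C ↘ Spec (CommRingCat.of k)))).obj A ≅
      T N A (Coh.structureModule C) 0) :=
  ⟨(ProjTwist.tensOne _ ≪≫ ProjTwist.tensCongr (Iso.refl _) (QCoh.pullbackUnitIso _) ≪≫ ProjTwist.tensOne _).symm⟩

theorem iso_snd (N : (Sq k C).Modules) (A : C.Modules) :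
    Nonempty ((Scheme.Modules.pullback
      (pullback.snd (C ↘ Spec (CommRingCat.of k)) (C ↘ Spec (CommRingCat.of k)))).obj A ≅
      T N (Coh.structureModule C) A 0) :=
  ⟨(ProjTwist.tensOne _ ≪≫ ProjTwist.tensCongr (QCoh.pullbackUnitIso _) (Iso.refl _) ≪≫ ProjTwist.oneTens _).symm⟩

/-- A rational point has degree one. -/
theorem dg_point [IsProper (C ↘ Spec (CommRingCat.of k))] [IsIntegral C] [Smooth (C ↘ Spec (CommRingCat.of k))] [IsAlgClosed k]
    (hdim : topologicalKrullDim C = 1)
    (x : Spec (CommRingCat.of k) ⟶ C) (hx : x ≫ (C ↘ Spec (CommRingCat.of k)) = 𝟙 (Spec (CommRingCat.of k)))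
    {A : C.Modules} (hA : PicF.IsInvertible A) (hAinv : ClSub.IsInverseOf A (ClSub.idealMod x.ker)) :
    dg k A = 1 := by
  letI : (Spec (CommRingCat.of k)).Over (Spec (CommRingCat.of k)) := ⟨𝟙 _⟩
  haveI : IsProper ((Spec (CommRingCat.of k)) ↘ Spec (CommRingCat.of k)) :=
    inferInstanceAs (IsProper (𝟙 (Spec (CommRingCat.of k))))
  haveI : IsClosedImmersion x := by
    haveI : IsClosedImmersion (x ≫ (C ↘ Spec (CommRingCat.of k))) := by rw [hx]; infer_instance
    exact IsClosedImmersion.of_comp x (C ↘ Spec (CommRingCat.of k))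
  haveI := EulerChar.isNoetherian k (X := C)
  haveI := EulerChar.isNoetherian k (X := Spec (CommRingCat.of k))
  obtain ⟨eA⟩ := hAinv
  let G := (Scheme.Modules.pullback x).obj A
  have hG : PicF.IsInvertible G := PicCl.isInvertible_pullback _ hA
  obtain ⟨eG⟩ := JacPts.nonempty_iso_structure_of_field k hG
  have hS := ProjTwist.shortExact_tensor hA (EulerChar.shortExact_ideal x.ker)
  let e1 : (LiftLib.tensR A).obj (ClSub.idealMod x.ker) ≅ Coh.structureModule C := ProjTwist.tensComm _ _ ≪≫ eA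
  let e2 : (LiftLib.tensR A).obj (Coh.structureModule C) ≅ A := ProjTwist.oneTens A
  let e3 : (LiftLib.tensR A).obj (ClSub.quotMod x.ker) ≅ (Scheme.Modules.pushforward x).obj G :=
    (LiftLib.tensR A).mapIso (HilbLoc.quotModIso x) ≪≫ ProjTwist.tensComm _ _ ≪≫ EulerChar.tensQuotIso x A
  have hOc : Coh.IsCoh (Coh.structureModule C) :=
    VBLib.isCoh_of_ofRank (ofRank_one_of_invertible (LFFrame.isInvertible_structureModule C))
  have hGc : Coh.IsCoh G := VBLib.isCoh_of_ofRank (ofRank_one_of_invertible hG)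
  have h := EulerChar.euler_add_map k (LiftLib.tensR A) (ClSub.idealModι x.ker) (ClSub.toSubscheme x.ker)
    (kernel.condition _) hS (CohDev.isCoh_of_iso e1.symm hOc)
    (CohDev.isCoh_of_iso e2.symm (VBLib.isCoh_of_ofRank (ofRank_one_of_invertible hA)))
    (CohDev.isCoh_of_iso e3.symm (ProperFin.isCoh_push_of_isFinite _ _ hGc))
  rw [EulerChar.euler_iso k e1, EulerChar.euler_iso k e2, EulerChar.euler_iso k e3,
    EulerChar.euler_push x hx _ hGc.1, EulerChar.euler_iso k eG] at h
  have h0 : Module.finrank k (Coh.HH (Spec (CommRingCat.of k)) (Coh.structureModule _) 0) = 1 := by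
    haveI : IsIntegral (Spec (CommRingCat.of k)) := inferInstance
    exact finrank_H0_structure_eq_one bijective_toGlobal_of_isAlgClosed
  have hpt : Curv2.euler k (Spec (CommRingCat.of k)) (Coh.structureModule _) = 1 := by
    rw [EulerChar.euler_eq_sum k (t := 1) fun n hn => ?_]
    · simp [h0]
    · obtain _ | n := n
      · omega
      · haveI : (Coh.structureModule (Spec (CommRingCat.of k))).IsQuasicoherent :=
          ProjTwist.isQuasicoherent_structureModule _
        exact S0007.result (Spec (CommRingCat.of k)) (Coh.structureModule _) (n + 1) (by omega)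
  rw [hpt] at h
  rw [← dg_eq (ofRank_one_of_invertible hA), Curv2.deg, h]
  push_cast
  ring

variable [IsProper (C ↘ Spec (CommRingCat.of k))] [Smooth (C ↘ Spec (CommRingCat.of k))]
  [IsAlgClosed k] [IsIntegral C] {κ : C ⟶ CohB1.ProjSpace 1 k} [IsFinite κ] [Flat κ] {σ : C ⟶ C}
  {hσp : σ ≫ (C ↘ Spec (CommRingCat.of k)) = C ↘ Spec (CommRingCat.of k)} {g : ℕ} {N : (Sq k C).Modules}
  (H : Hyp κ σ hσp g N)

include H

theorem eulerLE_T {M : (Sq k C).Modules} {A B : C.Modules} (hA : PicF.IsInvertible A) (hB : PicF.IsInvertible B)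
    (r : ℕ) (e : M ≅ T N A B r) :
    FGA.eulerCharLE k (Sq k C) M 2 = (dg k A - ((g : ℤ) - 1)) * (dg k B - ((g : ℤ) - 1)) +
      (r : ℤ) * (dg k A + dg k B) - ((g : ℤ) - 1) * r * (r + 2) := by
  rw [← euler_T H hA hB r, euler_eq_three H hA hB r, FGA.eulerCharLE]
  simp only [Finset.sum_range_succ, Finset.sum_range_zero, h, Snapper.finrank_HH_iso k e]
  ring

/-- Intersection numbers through the Euler characteristics of `p₁^*A ⊗ p₂^*B ⊗ O(rΓ)`. -/
theorem intNum_eq {M M' : (Sq k C).Modules} {A B A' B' A'' B'' : C.Modules} (hA : PicF.IsInvertible A)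
    (hB : PicF.IsInvertible B) (hA' : PicF.IsInvertible A') (hB' : PicF.IsInvertible B')
    (hA'' : PicF.IsInvertible A'') (hB'' : PicF.IsInvertible B'') (r r' r'' : ℕ) (e : M ≅ T N A B r)
    (e' : M' ≅ T N A' B' r') (e'' : CohB1.tensorMod M M' ≅ T N A'' B'' r'') :
    FGA.intNum k (Sq k C) 2 ![M, M'] (Coh.structureModule (Sq k C)) =
      ((g : ℤ) - 1) ^ 2
      - ((dg k A - ((g : ℤ) - 1)) * (dg k B - ((g : ℤ) - 1)) + (r : ℤ) * (dg k A + dg k B)
          - ((g : ℤ) - 1) * r * (r + 2))
      - ((dg k A' - ((g : ℤ) - 1)) * (dg k B' - ((g : ℤ) - 1)) + (r' : ℤ) * (dg k A' + dg k B')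
          - ((g : ℤ) - 1) * r' * (r' + 2))
      + ((dg k A'' - ((g : ℤ) - 1)) * (dg k B'' - ((g : ℤ) - 1)) + (r'' : ℤ) * (dg k A'' + dg k B'')
          - ((g : ℤ) - 1) * r'' * (r'' + 2)) := by
  have hO := LFFrame.isInvertible_structureModule C
  obtain ⟨b⟩ := box_structure (k := k) (C := C)
  rw [intNum_pair, eulerLE_T H hO hO 0 (ProjTwist.tensOne _ ≪≫ b.symm ≪≫ (ProjTwist.tensOne _).symm),
    eulerLE_T H hA hB r (ProjTwist.tensOne _ ≪≫ ProjTwist.tensOne _ ≪≫ e),
    eulerLE_T H hA' hB' r' (ProjTwist.tensOne _ ≪≫ ProjTwist.tensOne _ ≪≫ e'),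
    eulerLE_T H hA'' hB'' r''
      (ProjTwist.tensOne _ ≪≫ ProjTwist.tensCongr (Iso.refl M) (ProjTwist.tensOne M') ≪≫ e''), dg_structure]
  push_cast
  ring

end Groth.Agent.HypSq70
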