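import Groth.Agent.EulerChar.Basic
import Groth.Agent.CurveCoh.Euler
import Groth.Agent.Snapper.BaseChange

/-!
# Dimension counts along the long exact sequence of a proper scheme
-/

set_option autoImplicit false
set_option linter.style.haveILetI false

universe u

open CategoryTheory CategoryTheory.Limits AlgebraicGeometry

noncomputable section

namespace Groth.Agent.HypSq70.LES

variable (k : Type u) [Field k] {X : Scheme.{u}} [X.Over (Spec (CommRingCat.of k))]
  [IsProper (X ↘ Spec (CommRingCat.of k))] {S : ShortComplex X.Modules} (hS : S.ShortExact)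
  (h₁ : Coh.IsCoh S.X₁) (h₂ : Coh.IsCoh S.X₂) (h₃ : Coh.IsCoh S.X₃)

include hS h₁ h₂ h₃

omit h₁ h₃ in
theorem middle (n : ℕ) (ha : Module.finrank k (LinearMap.range (CurveCoh.mapL k S.f n)) = 0)
    (hc : Module.finrank k (LinearMap.range (CurveCoh.mapL k S.g n)) = 0) : Module.finrank k (Coh.HH X S.X₂ n) = 0 := by
  haveI := EulerChar.finite_HH k S.X₂ h₂ n
  have h := CurveCoh.finrank_exact₃ k _ _ (CurveCoh.exact_mapL k hS n)
  omega

theorem middle_zero (n : ℕ) (ha : Module.finrank k (Coh.HH X S.X₁ n) = 0) (hc : Module.finrank k (Coh.HH X S.X₃ n) = 0) : Module.finrank k (Coh.HH X S.X₂ n) = 0 := by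
  haveI := EulerChar.finite_HH k S.X₁ h₁ n
  haveI := EulerChar.finite_HH k S.X₃ h₃ n
  refine middle k hS h₂ n ?_ ?_
  · exact Nat.le_zero.1 ((LinearMap.finrank_range_le _).trans ha.le)
  · exact Nat.le_zero.1 ((Submodule.finrank_le _).trans hc.le)

theorem middle_eq_right (n : ℕ) (ha : Module.finrank k (Coh.HH X S.X₁ n) = 0) (ha' : Module.finrank k (Coh.HH X S.X₁ (n + 1)) = 0) :
    Module.finrank k (Coh.HH X S.X₂ n) = Module.finrank k (Coh.HH X S.X₃ n) := by
  haveI := EulerChar.finite_HH k S.X₁ h₁ n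
  haveI := EulerChar.finite_HH k S.X₁ h₁ (n + 1)
  haveI := EulerChar.finite_HH k S.X₂ h₂ n
  haveI := EulerChar.finite_HH k S.X₃ h₃ n
  have e1 := CurveCoh.finrank_exact₃ k _ _ (CurveCoh.exact_mapL k hS n)
  have e2 := CurveCoh.finrank_exact₃ k _ _ (CurveCoh.exact_mapL_deltaL k hS n (n + 1) rfl)
  have z1 : Module.finrank k (LinearMap.range (CurveCoh.mapL k S.f n)) = 0 :=
    Nat.le_zero.1 ((LinearMap.finrank_range_le _).trans ha.le)
  have z2 : Module.finrank k (LinearMap.range (CurveCoh.deltaL k hS n (n + 1) rfl)) = 0 :=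
    Nat.le_zero.1 ((Submodule.finrank_le _).trans ha'.le)
  omega

theorem zero_add_right (ha : Module.finrank k (Coh.HH X S.X₁ 1) = 0) : Module.finrank k (Coh.HH X S.X₂ 0) = Module.finrank k (Coh.HH X S.X₁ 0) + Module.finrank k (Coh.HH X S.X₃ 0) := by
  haveI := EulerChar.finite_HH k S.X₁ h₁ 1
  haveI := EulerChar.finite_HH k S.X₂ h₂ 0
  haveI := EulerChar.finite_HH k S.X₃ h₃ 0
  have e1 := CurveCoh.finrank_exact₃ k _ _ (CurveCoh.exact_mapL k hS 0)
  have e2 := CurveCoh.finrank_exact₃ k _ _ (CurveCoh.exact_mapL_deltaL k hS 0 1 rfl)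
  have z2 : Module.finrank k (LinearMap.range (CurveCoh.deltaL k hS 0 1 rfl)) = 0 :=
    Nat.le_zero.1 ((Submodule.finrank_le _).trans ha.le)
  rw [LinearMap.finrank_range_of_inj (CurveCoh.injective_mapL_zero k hS)] at e1
  omega

omit h₁ in
theorem zero_eq_left (hc : Module.finrank k (Coh.HH X S.X₃ 0) = 0) : Module.finrank k (Coh.HH X S.X₂ 0) = Module.finrank k (Coh.HH X S.X₁ 0) := by
  haveI := EulerChar.finite_HH k S.X₂ h₂ 0
  haveI := EulerChar.finite_HH k S.X₃ h₃ 0
  have e1 := CurveCoh.finrank_exact₃ k _ _ (CurveCoh.exact_mapL k hS 0)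
  have z : Module.finrank k (LinearMap.range (CurveCoh.mapL k S.g 0)) = 0 :=
    Nat.le_zero.1 ((Submodule.finrank_le _).trans hc.le)
  rw [LinearMap.finrank_range_of_inj (CurveCoh.injective_mapL_zero k hS)] at e1
  omega

end Groth.Agent.HypSq70.LES
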