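import Groth.Agent.VBLib.LineCalc
import Groth.Agent.VBLib.RR
import Groth.Agent.EulerChar.AmpleCurve
import Groth.Agent.FFCurve.Canonical
import Groth.Agent.CurveCoh.Integral
import Groth.Agent.FormalFun.TowerVan
import Groth.Agent.Snapper.BaseChange
import Groth.Agent.KFlat.PullTensor

/-!
# Line bundles on a smooth proper curve over an algebraically closed field
-/

set_option autoImplicit false

universe u

open CategoryTheory CategoryTheory.Limits AlgebraicGeometry

noncomputable section

namespace Groth.Agent.HypSq70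

open VBLib

variable {X : Scheme.{u}}

/-- Powers of a module add up. -/
theorem pow_add (L : X.Modules) (a : ℕ) : ∀ b : ℕ,
    Nonempty (CohB1.tensorMod (CohB1.tensorPow L a) (CohB1.tensorPow L b) ≅ CohB1.tensorPow L (a + b))
  | 0 => ⟨ProjTwist.tensOne _⟩
  | b + 1 => by
    obtain ⟨e⟩ := pow_add L a b
    exact ⟨(ProjTwist.tensAssoc _ _ L).symm ≪≫ ProjTwist.tensCongr e (Iso.refl L)⟩

variable (k : Type u) [Field k] [X.Over (Spec (CommRingCat.of k))] [IsProper (X ↘ Spec (CommRingCat.of k))]
  [IsIntegral X]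

/-- The dimension of cohomology. -/
abbrev h (M : X.Modules) (i : ℕ) : ℕ := Module.finrank k (Coh.HH X M i)

theorem dg_iso {A B : X.Modules} (hA : PicF.IsInvertible A) (e : A ≅ B) : dg k A = dg k B := by
  rw [← dg_eq (ofRank_one_of_invertible hA),
    ← dg_eq (ofRank_one_of_invertible (PicCl.isInvertible_of_iso e hA)), EulerChar.deg_iso k e]

theorem dg_structure : dg k (Coh.structureModule X) = 0 := by
  simp [dg, Curv2.deg, rk_eq (ofRank_one_of_invertible (LFFrame.isInvertible_structureModule X))]

variable (hdim : topologicalKrullDim X = 1)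
include hdim

theorem dg_tens {A B : X.Modules} (hA : PicF.IsInvertible A) (hB : PicF.IsInvertible B) :
    dg k (CohB1.tensorMod A B) = dg k A + dg k B := by
  rw [← dg_eq (ofRank_one_of_invertible hA), ← dg_eq (ofRank_one_of_invertible hB),
    ← dg_eq (ofRank_one_of_invertible (AmpleLib.isInvertible_tensorMod hA hB))]
  have h := EulerChar.deg_tens k (ProjTwist.isFinLocFreeOfRank_one hA) hdim.le
    (ProjTwist.isFinLocFreeOfRank_one hB)
  refine Eq.trans h ?_
  push_cast
  ring

theorem dg_pow {A : X.Modules} (hA : PicF.IsInvertible A) (n : ℕ) :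
    dg k (CohB1.tensorPow A n) = n * dg k A := by
  rw [← dg_eq (ofRank_one_of_invertible hA),
    ← dg_eq (ofRank_one_of_invertible (AmpleLib.isInvertible_tensorPow hA n)),
    EulerChar.deg_tensorPow k hdim hA n]

omit hdim in
theorem bij [IsAlgClosed k] : Function.Bijective (Coh.toGlobal (X ↘ Spec (CommRingCat.of k))) :=
  bijective_toGlobal_of_isAlgClosed

variable [IsAlgClosed k] [Smooth (X ↘ Spec (CommRingCat.of k))]

/-- Riemann-Roch for a line bundle. -/
theorem rr {A : X.Modules} (hA : PicF.IsInvertible A) :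
    (h k A 0 : ℤ) - h k A 1 = dg k A + 1 - (Curv2.genus k X : ℤ) := by
  have hX := goodCurve_of_smooth (k := k) hdim
  rw [hX.riemannRoch (bij k) (isCoh_of_ofRank (ofRank_one_of_invertible hA)),
    rk_eq (ofRank_one_of_invertible hA)]
  push_cast
  ring

include k in
theorem subsingleton_two_le {A : X.Modules} (hA : PicF.IsInvertible A) {n : ℕ} (hn : 2 ≤ n) :
    Subsingleton (Coh.HH X A n) := by
  haveI : A.IsQuasicoherent := (isCoh_of_ofRank (ofRank_one_of_invertible hA)).1
  exact CurveCoh.subsingleton_HH k A (goodCurve_of_smooth (k := k) hdim).val hdim n hn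

theorem h_two_le {A : X.Modules} (hA : PicF.IsInvertible A) {n : ℕ} (hn : 2 ≤ n) : h k A n = 0 := by
  haveI := subsingleton_two_le (k := k) hdim hA hn
  exact Module.finrank_zero_of_subsingleton

theorem euler_line {A : X.Modules} (hA : PicF.IsInvertible A) :
    Curv2.euler k X A = dg k A + 1 - (Curv2.genus k X : ℤ) := by
  haveI : A.IsQuasicoherent := (isCoh_of_ofRank (ofRank_one_of_invertible hA)).1
  rw [CurveCoh.euler_eq A (goodCurve_of_smooth (k := k) hdim).val hdim]
  exact rr k hdim hA

theorem h0_neg {A : X.Modules} (hA : PicF.IsInvertible A) (hd : dg k A < 0) : h k A 0 = 0 := by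
  haveI := (goodCurve_of_smooth (k := k) hdim).subsingleton_h0_neg hA hd
  exact Module.finrank_zero_of_subsingleton

/-- `h¹` vanishes in degree above `2g - 2`. -/
theorem h1_large {A : X.Modules} (hA : PicF.IsInvertible A)
    (hd : 2 * (Curv2.genus k X : ℤ) - 2 < dg k A) : h k A 1 = 0 := by
  haveI := FFCurve.regCurve_of_smooth (X := X) k hdim
  obtain ⟨hD, ⟨d⟩⟩ := DualDeg.invertible_dual hA
  have hΩ := FFCurve.isInvertible_omega (X := X) k hdim
  rw [h, FFCurve.finrank_one_eq_dual k hdim hA ⟨d⟩ hD]
  refine h0_neg k hdim (AmpleLib.isInvertible_tensorMod hΩ hD) ?_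
  have h1 := dg_tens k hdim hA hD
  rw [dg_iso k (AmpleLib.isInvertible_tensorMod hA hD) d, dg_structure] at h1
  rw [dg_tens k hdim hΩ hD, ← dg_eq (ofRank_one_of_invertible hΩ), FFCurve.deg_omega k hdim]
  omega

end Groth.Agent.HypSq70
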