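import Groth.Agent.HypSq70.Line
import Groth.Agent.HypSq70.LES
import Groth.Agent.S7635
import Groth.Agent.EulerChar.Cartier
import Groth.Agent.EulerChar.Restrict
import Groth.Agent.HilbLoc.Normal
import Groth.Agent.LiftLib.KerUnit
import Groth.Agent.GrpScheme.SectionConormal
import Groth.Agent.Omega.SheafBC

/-!
# Line bundles on the square of a curve, and the sequence of the graph of an endomorphism
-/

set_option autoImplicit false
set_option linter.style.haveILetI false

universe u

open CategoryTheory CategoryTheory.Limits AlgebraicGeometry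
open scoped TensorProduct

noncomputable section

namespace Groth.Agent.HypSq70

open VBLib

variable (k : Type u) [Field k] (C : Scheme.{u}) [C.Over (Spec (CommRingCat.of k))]

/-- The square of the curve. -/
abbrev Sq : Scheme.{u} := pullback (C ↘ Spec (CommRingCat.of k)) (C ↘ Spec (CommRingCat.of k))

/-- The structure map of the square through the first projection. -/
@[reducible] def overSq : (Sq k C).Over (Spec (CommRingCat.of k)) :=
  ⟨pullback.fst (C ↘ Spec (CommRingCat.of k)) (C ↘ Spec (CommRingCat.of k)) ≫ (C ↘ Spec (CommRingCat.of k))⟩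

attribute [local instance] overSq

variable {k C}

/-- The outer tensor product. -/
abbrev Box (A B : C.Modules) : (Sq k C).Modules :=
  CohB1.tensorMod
    ((Scheme.Modules.pullback (pullback.fst (C ↘ Spec (CommRingCat.of k)) (C ↘ Spec (CommRingCat.of k)))).obj A)
    ((Scheme.Modules.pullback (pullback.snd (C ↘ Spec (CommRingCat.of k)) (C ↘ Spec (CommRingCat.of k)))).obj B)

/-- The graph of an endomorphism. -/
abbrev gr (σ : C ⟶ C) (hσp : σ ≫ (C ↘ Spec (CommRingCat.of k)) = C ↘ Spec (CommRingCat.of k)) : C ⟶ Sq k C :=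
  pullback.lift (𝟙 C) σ ((Category.id_comp (C ↘ Spec (CommRingCat.of k))).trans hσp.symm)

theorem inv_box {A B : C.Modules} (hA : PicF.IsInvertible A) (hB : PicF.IsInvertible B) :
    PicF.IsInvertible (Box (k := k) A B) :=
  AmpleLib.isInvertible_tensorMod (PicCl.isInvertible_pullback _ hA) (PicCl.isInvertible_pullback _ hB)

theorem box_structure :
    Nonempty (Box (k := k) (Coh.structureModule C) (Coh.structureModule C) ≅ Coh.structureModule (Sq k C)) :=
  ⟨ProjTwist.tensCongr (QCoh.pullbackUnitIso _) (QCoh.pullbackUnitIso _) ≪≫ ProjTwist.oneTens _⟩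

section pullGraph

variable (σ : C ⟶ C) (hσp : σ ≫ (C ↘ Spec (CommRingCat.of k)) = C ↘ Spec (CommRingCat.of k))

theorem pull_box (A B : C.Modules) :
    Nonempty ((Scheme.Modules.pullback (gr σ hσp)).obj (Box (k := k) A B) ≅
      CohB1.tensorMod A ((Scheme.Modules.pullback σ).obj B)) :=
  ⟨KFlat.PullTensor.pullTensorIso (gr σ hσp) _ _ ≪≫ ProjTwist.tensCongr
    ((Scheme.Modules.pullbackComp _ _).app A ≪≫
      (Scheme.Modules.pullbackCongr (pullback.lift_fst _ _ _)).app A ≪≫ (Scheme.Modules.pullbackId C).app A)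
    ((Scheme.Modules.pullbackComp _ _).app B ≪≫
      (Scheme.Modules.pullbackCongr (pullback.lift_snd _ _ _)).app B)⟩

variable [IsProper (C ↘ Spec (CommRingCat.of k))]

instance isClosedImmersion_gr : IsClosedImmersion (gr σ hσp) := by
  haveI : IsClosedImmersion (gr σ hσp ≫ pullback.fst (C ↘ Spec (CommRingCat.of k)) (C ↘ Spec (CommRingCat.of k))) := by
    rw [pullback.lift_fst]; infer_instance
  exact IsClosedImmersion.of_comp (gr σ hσp)
    (pullback.fst (C ↘ Spec (CommRingCat.of k)) (C ↘ Spec (CommRingCat.of k)))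

omit [IsProper (C ↘ Spec (CommRingCat.of k))] in
theorem gr_over : gr σ hσp ≫ ((Sq k C) ↘ Spec (CommRingCat.of k)) = C ↘ Spec (CommRingCat.of k) := by
  show gr σ hσp ≫ pullback.fst _ _ ≫ _ = _
  rw [← Category.assoc, pullback.lift_fst, Category.id_comp]

instance isProper_sq : IsProper ((Sq k C) ↘ Spec (CommRingCat.of k)) :=
  inferInstanceAs (IsProper (pullback.fst (C ↘ Spec (CommRingCat.of k)) (C ↘ Spec (CommRingCat.of k)) ≫
    (C ↘ Spec (CommRingCat.of k))))

/-- The conormal sheaf of the graph is the differentials of the curve pulled back by the endomorphism. -/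
theorem conormal_graph [Smooth (C ↘ Spec (CommRingCat.of k))] :
    Nonempty ((Scheme.Modules.pullback (gr σ hσp)).obj (ClSub.idealMod (gr σ hσp).ker) ≅
      (Scheme.Modules.pullback σ).obj (Omega.sheaf (C ↘ Spec (CommRingCat.of k)))) := by
  obtain ⟨e⟩ := GrpScheme.SectionConormal.nonempty_iso (gr σ hσp) _
    (by rw [pullback.lift_fst]; infer_instance)
    (Omega.DiagUniv.isUniversal_dOmega
      (pullback.fst (C ↘ Spec (CommRingCat.of k)) (C ↘ Spec (CommRingCat.of k))))
  obtain ⟨e'⟩ := Omega.SheafBC.nonempty_iso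
    (IsPullback.of_hasPullback (C ↘ Spec (CommRingCat.of k)) (C ↘ Spec (CommRingCat.of k))).flip
  exact ⟨e ≪≫ (Scheme.Modules.pullback (gr σ hσp)).mapIso e'.symm ≪≫
    (Scheme.Modules.pullbackComp _ _).app _ ≪≫ (Scheme.Modules.pullbackCongr (pullback.lift_snd _ _ _)).app _⟩

variable {N : (Sq k C).Modules} (hN : PicF.IsInvertible N)
  (hNinv : ClSub.IsInverseOf N (ClSub.idealMod (gr σ hσp).ker))

include hN hNinv in
/-- `0 → F → F ⊗ N → Γ_*Γ^*(F ⊗ N) → 0`, read on cohomology. -/
theorem graph_seq {F : (Sq k C).Modules} (hF : PicF.IsInvertible F) :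
    ∃ S : ShortComplex (Sq k C).Modules, S.ShortExact ∧ Coh.IsCoh S.X₁ ∧ Coh.IsCoh S.X₂ ∧ Coh.IsCoh S.X₃ ∧
      Nonempty (S.X₁ ≅ F) ∧ Nonempty (S.X₂ ≅ CohB1.tensorMod F N) ∧
      (∀ n, Module.finrank k (Coh.HH (Sq k C) S.X₃ n) =
        Module.finrank k (Coh.HH C ((Scheme.Modules.pullback (gr σ hσp)).obj (CohB1.tensorMod F N)) n)) ∧
      Curv2.euler k (Sq k C) S.X₃ =
        Curv2.euler k C ((Scheme.Modules.pullback (gr σ hσp)).obj (CohB1.tensorMod F N)) := by
  haveI := EulerChar.isNoetherian k (X := Sq k C)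
  haveI := EulerChar.isNoetherian k (X := C)
  have hM := AmpleLib.isInvertible_tensorMod hF hN
  obtain ⟨eN⟩ := hNinv
  let M := CohB1.tensorMod F N
  let G := (Scheme.Modules.pullback (gr σ hσp)).obj M
  have hG : PicF.IsInvertible G := PicCl.isInvertible_pullback _ hM
  have hGc : Coh.IsCoh G := isCoh_of_ofRank (ofRank_one_of_invertible hG)
  have hS := ProjTwist.shortExact_tensor hM (EulerChar.shortExact_ideal (gr σ hσp).ker)
  let e1 : (LiftLib.tensR M).obj (ClSub.idealMod (gr σ hσp).ker) ≅ F :=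
    ProjTwist.tensComm _ _ ≪≫ ProjTwist.tensAssoc F N _ ≪≫ ProjTwist.tensCongr (Iso.refl F) eN ≪≫
      ProjTwist.tensOne F
  let e2 : (LiftLib.tensR M).obj (Coh.structureModule (Sq k C)) ≅ M := ProjTwist.oneTens M
  let e3 : (LiftLib.tensR M).obj (ClSub.quotMod (gr σ hσp).ker) ≅
      (Scheme.Modules.pushforward (gr σ hσp)).obj G :=
    (LiftLib.tensR M).mapIso (HilbLoc.quotModIso (gr σ hσp)) ≪≫ ProjTwist.tensComm _ _ ≪≫
      EulerChar.tensQuotIso (gr σ hσp) M
  refine ⟨_, hS, ?_, ?_, ?_, ⟨e1⟩, ⟨e2⟩, fun n => ?_, ?_⟩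
  · exact CohDev.isCoh_of_iso e1.symm (isCoh_of_ofRank (ofRank_one_of_invertible hF))
  · exact CohDev.isCoh_of_iso e2.symm (isCoh_of_ofRank (ofRank_one_of_invertible hM))
  · exact CohDev.isCoh_of_iso e3.symm (ProperFin.isCoh_push_of_isFinite _ _ hGc)
  · refine (Snapper.finrank_HH_iso k e3 n).trans ?_
    exact (EulerChar.nonempty_pushEquiv (gr σ hσp) (gr_over σ hσp) G hGc.1 n).some.finrank_eq
  · exact (EulerChar.euler_iso k e3).trans (EulerChar.euler_push (gr σ hσp) (gr_over σ hσp) G hGc.1)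

end pullGraph

section kunneth

variable [IsProper (C ↘ Spec (CommRingCat.of k))]

theorem h_box {A B : C.Modules} (hA : PicF.IsInvertible A) (hB : PicF.IsInvertible B) (n : ℕ) :
    Module.finrank k (Coh.HH (Sq k C) (Box (k := k) A B) n) =
      ∑ i : Fin (n + 1), h k A (i : ℕ) * h k B (n - (i : ℕ)) := by
  haveI := EulerChar.compactSpace k (X := C)
  haveI := EulerChar.isNoetherian k (X := C)
  have hAc := isCoh_of_ofRank (ofRank_one_of_invertible hA)
  have hBc := isCoh_of_ofRank (ofRank_one_of_invertible hB)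
  obtain ⟨e⟩ := S7635.result k C C A hAc.1 B hBc.1 n
  rw [← e.finrank_eq]
  haveI := fun i => EulerChar.finite_HH k A hAc i
  haveI := fun i => EulerChar.finite_HH k B hBc i
  rw [Module.finrank_pi_fintype]
  exact Finset.sum_congr rfl fun i _ => Module.finrank_tensorProduct

end kunneth

end Groth.Agent.HypSq70
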