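import Groth.Agent.HypSq70.Curve
import Groth.Agent.HypSq70.Square
import Groth.Agent.EulerFam.Tau

/-!
# Cohomology of `p₁^*A ⊗ p₂^*B ⊗ O(rΓ_σ)` on the square of a hyperelliptic curve
-/

set_option autoImplicit false
set_option linter.style.haveILetI false

universe u

open CategoryTheory CategoryTheory.Limits AlgebraicGeometry

noncomputable section

namespace Groth.Agent.HypSq70

open VBLib

/-- Middle interchange. -/
def interchange {X : Scheme.{u}} (a b c d : X.Modules) :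
    CohB1.tensorMod (CohB1.tensorMod a b) (CohB1.tensorMod c d) ≅
      CohB1.tensorMod (CohB1.tensorMod a c) (CohB1.tensorMod b d) :=
  ProjTwist.tensAssoc a b _ ≪≫
    ProjTwist.tensCongr (Iso.refl a)
      ((ProjTwist.tensAssoc b c d).symm ≪≫ ProjTwist.tensCongr (ProjTwist.tensComm b c) (Iso.refl d) ≪≫
        ProjTwist.tensAssoc c b d) ≪≫
    (ProjTwist.tensAssoc a c _).symm

variable {k : Type u} [Field k] {C : Scheme.{u}} [C.Over (Spec (CommRingCat.of k))]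
  [IsProper (C ↘ Spec (CommRingCat.of k))] [Smooth (C ↘ Spec (CommRingCat.of k))]

attribute [local instance] overSq

/-- The data of a hyperelliptic curve with an endomorphism over the pencil and its graph class. -/
structure Hyp (κ : C ⟶ CohB1.ProjSpace 1 k) [IsFinite κ] [Flat κ] (σ : C ⟶ C)
    (hσp : σ ≫ (C ↘ Spec (CommRingCat.of k)) = C ↘ Spec (CommRingCat.of k)) (g : ℕ)
    (N : (Sq k C).Modules) : Prop where
  dim : topologicalKrullDim C = 1
  toSpec_eq : κ ≫ CohB1.ProjSpace.toSpec 1 k = C ↘ Spec (CommRingCat.of k)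
  rank : ∀ y : ↥(CohB1.ProjSpace 1 k), κ.finrank y = 2
  two_le : 2 ≤ g
  genus : Curv2.genus k C = g
  comp : σ ≫ κ = κ
  inv : PicF.IsInvertible N
  inverse : ClSub.IsInverseOf N (ClSub.idealMod (gr σ hσp).ker)

variable [IsAlgClosed k] [IsIntegral C] {κ : C ⟶ CohB1.ProjSpace 1 k} [IsFinite κ] [Flat κ] {σ : C ⟶ C}
  {hσp : σ ≫ (C ↘ Spec (CommRingCat.of k)) = C ↘ Spec (CommRingCat.of k)} {g : ℕ} {N : (Sq k C).Modules}
  (H : Hyp κ σ hσp g N)

/-- `p₁^*A ⊗ p₂^*B ⊗ N^r`. -/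
abbrev T (N : (Sq k C).Modules) (A B : C.Modules) (r : ℕ) : (Sq k C).Modules :=
  CohB1.tensorMod (Box (k := k) A B) (CohB1.tensorPow N r)

/-- The restriction to the graph. -/
abbrev res (σ : C ⟶ C) (hσp : σ ≫ (C ↘ Spec (CommRingCat.of k)) = C ↘ Spec (CommRingCat.of k))
    (M : (Sq k C).Modules) : C.Modules :=
  (Scheme.Modules.pullback (gr σ hσp)).obj M

omit [IsAlgClosed k] [IsIntegral C] in
include H in
theorem inv_T {A B : C.Modules} (hA : PicF.IsInvertible A) (hB : PicF.IsInvertible B) (r : ℕ) :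
    PicF.IsInvertible (T N A B r) :=
  AmpleLib.isInvertible_tensorMod (inv_box hA hB) (AmpleLib.isInvertible_tensorPow H.inv r)

include H

omit [IsAlgClosed k] [IsIntegral C] in
theorem pull_pencil_pow (n : ℕ) :
    Nonempty ((Scheme.Modules.pullback σ).obj (CohB1.tensorPow (pencil κ) n) ≅ CohB1.tensorPow (pencil κ) n) := by
  obtain ⟨e⟩ := EulerFam.pullback_tensorPow σ (pencil κ) n
  obtain ⟨e'⟩ := FormalFun.nonempty_tensorPow_congr
    ((Scheme.Modules.pullbackComp σ κ).app (Twist.twistProjSpace 1 k 1) ≪≫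
      (Scheme.Modules.pullbackCongr H.comp).app _) n
  exact ⟨e ≪≫ e'⟩

/-- The normal class of the graph. -/
theorem res_N : Nonempty (CohB1.tensorMod (res σ hσp N) (CohB1.tensorPow (pencil κ) (g - 1)) ≅
    Coh.structureModule C) := by
  obtain ⟨e⟩ := H.inverse
  obtain ⟨ω⟩ := omega_iso H.dim κ H.toSpec_eq H.rank g H.two_le H.genus
  obtain ⟨c⟩ := conormal_graph σ hσp
  obtain ⟨p⟩ := pull_pencil_pow H (g - 1)
  exact ⟨ProjTwist.tensCongr (Iso.refl _) ((c ≪≫ (Scheme.Modules.pullback σ).mapIso ω ≪≫ p).symm) ≪≫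
    (KFlat.PullTensor.pullTensorIso (gr σ hσp) N _).symm ≪≫
    (Scheme.Modules.pullback (gr σ hσp)).mapIso e ≪≫ QCoh.pullbackUnitIso _⟩

theorem res_N_pow : ∀ r : ℕ, Nonempty (CohB1.tensorMod (CohB1.tensorPow (res σ hσp N) r)
    (CohB1.tensorPow (pencil κ) ((g - 1) * r)) ≅ Coh.structureModule C)
  | 0 => ⟨ProjTwist.oneTens _⟩
  | r + 1 => by
    obtain ⟨e⟩ := res_N_pow r
    obtain ⟨e'⟩ := res_N H
    obtain ⟨a⟩ := pow_add (pencil κ) ((g - 1) * r) (g - 1)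
    exact ⟨ProjTwist.tensCongr (Iso.refl _) a.symm ≪≫ interchange _ _ _ _ ≪≫
      ProjTwist.tensCongr e e' ≪≫ ProjTwist.oneTens _⟩

omit [IsAlgClosed k] [IsIntegral C] H in
theorem res_T (N : (Sq k C).Modules) (A B : C.Modules) (r : ℕ) :
    Nonempty (res σ hσp (T N A B r) ≅
      CohB1.tensorMod (CohB1.tensorMod A ((Scheme.Modules.pullback σ).obj B))
        (CohB1.tensorPow (res σ hσp N) r)) := by
  obtain ⟨a⟩ := pull_box σ hσp A B
  obtain ⟨b⟩ := EulerFam.pullback_tensorPow (gr σ hσp) N r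
  let t := KFlat.PullTensor.pullTensorIso (gr σ hσp) (Box (k := k) A B) (CohB1.tensorPow N r)
  let u := ProjTwist.tensCongr a b
  exact ⟨t.trans u⟩

/-- The restriction of `F_m + rΓ` to the graph. -/
theorem res_pencil (m r s : ℕ) (hs : (s : ℤ) = 2 * (m : ℤ) - ((g : ℤ) - 1) * r) :
    Nonempty (res σ hσp (T N (CohB1.tensorPow (pencil κ) m) (CohB1.tensorPow (pencil κ) m) r) ≅
      CohB1.tensorPow (pencil κ) s) := by
  have hnat : m + m = s + (g - 1) * r := by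
    have := H.two_le
    have h1 : ((g - 1 : ℕ) : ℤ) = (g : ℤ) - 1 := by omega
    zify
    rw [h1]
    linarith
  obtain ⟨t⟩ := res_T (σ := σ) (hσp := hσp) N (CohB1.tensorPow (pencil κ) m) (CohB1.tensorPow (pencil κ) m) r
  obtain ⟨p⟩ := pull_pencil_pow H m
  obtain ⟨a⟩ := pow_add (pencil κ) m m
  obtain ⟨b⟩ := pow_add (pencil κ) s ((g - 1) * r)
  obtain ⟨e⟩ := res_N_pow H r
  exact ⟨t ≪≫ ProjTwist.tensCongr (ProjTwist.tensCongr (Iso.refl _) p ≪≫ a ≪≫ eqToIso (by rw [hnat]) ≪≫ b.symm)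
    (Iso.refl _) ≪≫ ProjTwist.tensAssoc _ _ _ ≪≫
    ProjTwist.tensCongr (Iso.refl _) (ProjTwist.tensComm _ _ ≪≫ e) ≪≫ ProjTwist.tensOne _⟩

theorem dg_res {A B : C.Modules} (hA : PicF.IsInvertible A) (hB : PicF.IsInvertible B) (r : ℕ) :
    dg k (res σ hσp (T N A B r)) = dg k A + dg k B - 2 * ((g : ℤ) - 1) * r := by
  have hg := H.two_le
  have hNr := PicCl.isInvertible_pullback (gr σ hσp) H.inv
  have hL := inv_pow κ (g - 1)
  obtain ⟨e⟩ := res_N H
  have h1 := dg_tens k H.dim hNr hL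
  rw [dg_iso k (AmpleLib.isInvertible_tensorMod hNr hL) e, dg_structure,
    dg_pencil_pow H.dim κ H.toSpec_eq H.rank] at h1
  obtain ⟨t⟩ := res_T (σ := σ) (hσp := hσp) N A B r
  have hB' := PicCl.isInvertible_pullback σ hB
  rw [dg_iso k (PicCl.isInvertible_pullback _ (inv_T H hA hB r)) t,
    dg_tens k H.dim (AmpleLib.isInvertible_tensorMod hA hB') (AmpleLib.isInvertible_tensorPow hNr r),
    dg_tens k H.dim hA hB', dg_pullback H.dim κ H.toSpec_eq H.rank σ H.comp hσp hB, dg_pow k H.dim hNr]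
  have h2 : ((g - 1 : ℕ) : ℤ) = (g : ℤ) - 1 := by omega
  rw [h2] at h1
  have h3 : dg k (res σ hσp N) = -(2 * ((g : ℤ) - 1)) := by linarith
  rw [h3]
  ring

/-- One step of the filtration by multiples of the graph. -/
theorem step {A B : C.Modules} (hA : PicF.IsInvertible A) (hB : PicF.IsInvertible B) (r : ℕ) :
    ∃ S : ShortComplex (Sq k C).Modules, S.ShortExact ∧ Coh.IsCoh S.X₁ ∧ Coh.IsCoh S.X₂ ∧ Coh.IsCoh S.X₃ ∧
      (∀ n, h k S.X₁ n = h k (T N A B r) n) ∧ (∀ n, h k S.X₂ n = h k (T N A B (r + 1)) n) ∧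
      (∀ n, h k S.X₃ n = h k (res σ hσp (T N A B (r + 1))) n) ∧
      Curv2.euler k (Sq k C) (T N A B (r + 1)) =
        Curv2.euler k (Sq k C) (T N A B r) + Curv2.euler k C (res σ hσp (T N A B (r + 1))) := by
  obtain ⟨S, hS, h₁, h₂, h₃, ⟨e₁⟩, ⟨e₂⟩, h4, h5⟩ :=
    graph_seq σ hσp H.inv H.inverse (inv_T H hA hB r)
  let a : CohB1.tensorMod (T N A B r) N ≅ T N A B (r + 1) := ProjTwist.tensAssoc _ _ _
  have hp : ∀ n, h k (res σ hσp (CohB1.tensorMod (T N A B r) N)) n = h k (res σ hσp (T N A B (r + 1))) n :=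
    fun n => Snapper.finrank_HH_iso k ((Scheme.Modules.pullback (gr σ hσp)).mapIso a) n
  refine ⟨S, hS, h₁, h₂, h₃, fun n => Snapper.finrank_HH_iso k e₁ n,
    fun n => Snapper.finrank_HH_iso k (e₂ ≪≫ a) n, fun n => (h4 n).trans (hp n), ?_⟩
  rw [← EulerChar.euler_iso k (e₂ ≪≫ a), EulerChar.euler_add k hS h₁ h₂ h₃, EulerChar.euler_iso k e₁, h5,
    EulerChar.euler_iso k ((Scheme.Modules.pullback (gr σ hσp)).mapIso a)]

theorem h_high {A B : C.Modules} (hA : PicF.IsInvertible A) (hB : PicF.IsInvertible B) :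
    ∀ (r n : ℕ), 3 ≤ n → h k (T N A B r) n = 0
  | 0, n, hn => by
    refine (Snapper.finrank_HH_iso k (ProjTwist.tensOne (Box (k := k) A B)) n).trans ?_
    rw [h_box hA hB]
    refine Finset.sum_eq_zero fun i _ => ?_
    by_cases hi : 2 ≤ (i : ℕ)
    · rw [h_two_le k H.dim hA hi, Nat.zero_mul]
    · rw [h_two_le k H.dim hB (n := n - (i : ℕ)) (by omega), Nat.mul_zero]
  | r + 1, n, hn => by
    obtain ⟨S, hS, h₁, h₂, h₃, a, b, c, -⟩ := step H hA hB r
    rw [← b n]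
    exact LES.middle_zero k hS h₁ h₂ h₃ n ((a n).trans (h_high hA hB r n hn))
      ((c n).trans (h_two_le k H.dim (PicCl.isInvertible_pullback _ (inv_T H hA hB (r + 1))) (by omega)))

theorem euler_eq_three {A B : C.Modules} (hA : PicF.IsInvertible A) (hB : PicF.IsInvertible B) (r : ℕ) :
    Curv2.euler k (Sq k C) (T N A B r) =
      (h k (T N A B r) 0 : ℤ) - h k (T N A B r) 1 + h k (T N A B r) 2 := by
  rw [EulerChar.euler_eq_sum k (t := 3) fun n hn => ?_]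
  · simp only [Finset.sum_range_succ, Finset.sum_range_zero, h]
    ring
  · haveI := EulerChar.finite_HH k (T N A B r) (VBLib.isCoh_of_ofRank (ProjTwist.isFinLocFreeOfRank_one (inv_T H hA hB r))) n
    exact Module.finrank_zero_iff.1 (h_high H hA hB r n hn)

/-- The Euler characteristic of `p₁^*A ⊗ p₂^*B ⊗ O(rΓ)`. -/
theorem euler_T {A B : C.Modules} (hA : PicF.IsInvertible A) (hB : PicF.IsInvertible B) : ∀ r : ℕ,
    Curv2.euler k (Sq k C) (T N A B r) = (dg k A - ((g : ℤ) - 1)) * (dg k B - ((g : ℤ) - 1)) +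
      (r : ℤ) * (dg k A + dg k B) - ((g : ℤ) - 1) * r * (r + 2)
  | 0 => by
    have hA' := rr k H.dim hA
    have hB' := rr k H.dim hB
    rw [H.genus] at hA' hB'
    have e : ∀ n, h k (T N A B 0) n = ∑ i : Fin (n + 1), h k A (i : ℕ) * h k B (n - (i : ℕ)) := fun n =>
      (Snapper.finrank_HH_iso k (ProjTwist.tensOne (Box (k := k) A B)) n).trans (h_box hA hB n)
    rw [euler_eq_three H hA hB, e 0, e 1, e 2]
    simp [Fin.sum_univ_succ, h_two_le k H.dim hA, h_two_le k H.dim hB]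
    linear_combination (h k B 0 - h k B 1 : ℤ) * hA' + (dg k A + 1 - (g : ℤ)) * hB'
  | r + 1 => by
    obtain ⟨S, -, -, -, -, -, -, -, h5⟩ := step H hA hB r
    rw [h5, euler_T hA hB r, euler_line k H.dim (PicCl.isInvertible_pullback _ (inv_T H hA hB (r + 1))),
      dg_res H hA hB, H.genus]
    push_cast
    ring

variable (m : ℕ) (hm : g ≤ m)

theorem euler_pencil (r : ℕ) :
    Curv2.euler k (Sq k C) (T N (CohB1.tensorPow (pencil κ) m) (CohB1.tensorPow (pencil κ) m) r) =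
      (2 * (m : ℤ) - ((g : ℤ) - 1)) ^ 2 + 4 * (m : ℤ) * r - ((g : ℤ) - 1) * r * (r + 2) := by
  rw [euler_T H (inv_pow κ m) (inv_pow κ m), dg_pencil_pow H.dim κ H.toSpec_eq H.rank]
  ring

theorem h0_res_neg (r : ℕ) (hneg : 2 * (m : ℤ) < ((g : ℤ) - 1) * r) :
    h k (res σ hσp (T N (CohB1.tensorPow (pencil κ) m) (CohB1.tensorPow (pencil κ) m) r)) 0 = 0 :=
  h0_neg k H.dim (PicCl.isInvertible_pullback _ (inv_T H (inv_pow κ m) (inv_pow κ m) r))
    (by rw [dg_res H (inv_pow κ m) (inv_pow κ m), dg_pencil_pow H.dim κ H.toSpec_eq H.rank]; linarith)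

/-- Past the bound the sections no longer grow. -/
theorem h0_drop (r : ℕ) (hneg : 2 * (m : ℤ) < ((g : ℤ) - 1) * ((r + 1 : ℕ) : ℤ)) :
    h k (T N (CohB1.tensorPow (pencil κ) m) (CohB1.tensorPow (pencil κ) m) (r + 1)) 0 =
      h k (T N (CohB1.tensorPow (pencil κ) m) (CohB1.tensorPow (pencil κ) m) r) 0 := by
  obtain ⟨S, hS, h₁, h₂, h₃, a, b, c, -⟩ := step H (inv_pow κ m) (inv_pow κ m) r
  rw [← a 0, ← b 0]
  exact LES.zero_eq_left k hS h₂ h₃ ((c 0).trans (h0_res_neg H m (r + 1) hneg))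

include hm

theorem h2_zero : ∀ r : ℕ, h k (T N (CohB1.tensorPow (pencil κ) m) (CohB1.tensorPow (pencil κ) m) r) 2 = 0
  | 0 => by
    refine (Snapper.finrank_HH_iso k (ProjTwist.tensOne _) 2).trans ?_
    rw [h_box (inv_pow κ m) (inv_pow κ m)]
    simp [Fin.sum_univ_succ, h_two_le k H.dim (inv_pow κ m),
      h1_pow_large H.dim κ H.toSpec_eq H.rank g H.two_le H.genus m hm]
  | r + 1 => by
    obtain ⟨S, hS, h₁, h₂, h₃, a, b, c, -⟩ := step H (inv_pow κ m) (inv_pow κ m) r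
    rw [← b 2]
    exact LES.middle_zero k hS h₁ h₂ h₃ 2 ((a 2).trans (h2_zero r))
      ((c 2).trans (h_two_le k H.dim (PicCl.isInvertible_pullback _ (inv_T H (inv_pow κ m) (inv_pow κ m) (r + 1))) le_rfl))

theorem h1_zero : ∀ r : ℕ, ((g : ℤ) - 1) * (r + 1) < 2 * m →
    h k (T N (CohB1.tensorPow (pencil κ) m) (CohB1.tensorPow (pencil κ) m) r) 1 = 0
  | 0, _ => by
    refine (Snapper.finrank_HH_iso k (ProjTwist.tensOne _) 1).trans ?_
    rw [h_box (inv_pow κ m) (inv_pow κ m)]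
    simp [Fin.sum_univ_succ, h1_pow_large H.dim κ H.toSpec_eq H.rank g H.two_le H.genus m hm]
  | r + 1, hr => by
    have hg := H.two_le
    have hr' : ((g : ℤ) - 1) * (r + 1) < 2 * m := by push_cast at hr; nlinarith
    obtain ⟨s, hs⟩ : ∃ s : ℕ, (s : ℤ) = 2 * (m : ℤ) - ((g : ℤ) - 1) * ((r + 1 : ℕ) : ℤ) :=
      ⟨(2 * (m : ℤ) - ((g : ℤ) - 1) * ((r + 1 : ℕ) : ℤ)).toNat,
        Int.toNat_of_nonneg (by push_cast; linarith)⟩
    have hsg : g ≤ s := by push_cast at hr hs; nlinarith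
    obtain ⟨e⟩ := res_pencil H m (r + 1) s hs
    obtain ⟨S, hS, h₁, h₂, h₃, a, b, c, -⟩ := step H (inv_pow κ m) (inv_pow κ m) r
    rw [← b 1]
    exact LES.middle_zero k hS h₁ h₂ h₃ 1 ((a 1).trans (h1_zero r hr'))
      ((c 1).trans ((Snapper.finrank_HH_iso k e 1).trans
        (h1_pow_large H.dim κ H.toSpec_eq H.rank g H.two_le H.genus s hsg)))

/-- Sections surject onto the graph while `H¹` vanishes. -/
theorem h0_succ (r s : ℕ) (hr : ((g : ℤ) - 1) * (r + 1) < 2 * m)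
    (hs : (s : ℤ) = 2 * (m : ℤ) - ((g : ℤ) - 1) * ((r + 1 : ℕ) : ℤ)) :
    h k (T N (CohB1.tensorPow (pencil κ) m) (CohB1.tensorPow (pencil κ) m) (r + 1)) 0 =
      h k (T N (CohB1.tensorPow (pencil κ) m) (CohB1.tensorPow (pencil κ) m) r) 0 +
        h k (CohB1.tensorPow (pencil κ) s) 0 := by
  obtain ⟨S, hS, h₁, h₂, h₃, a, b, c, -⟩ := step H (inv_pow κ m) (inv_pow κ m) r
  obtain ⟨e⟩ := res_pencil H m (r + 1) s hs
  rw [← a 0, ← b 0, show h k (CohB1.tensorPow (pencil κ) s) 0 = h k S.X₃ 0 from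
    ((c 0).trans (Snapper.finrank_HH_iso k e 0)).symm]
  exact LES.zero_add_right k hS h₁ h₂ h₃ ((a 1).trans (h1_zero H m hm r hr))

/-- The first cohomology in the boundary range. -/
theorem h1_mid (r : ℕ) (hpos : ((g : ℤ) - 1) * r < 2 * m) (hle : 2 * (m : ℤ) ≤ ((g : ℤ) - 1) * (r + 1)) :
    (h k (T N (CohB1.tensorPow (pencil κ) m) (CohB1.tensorPow (pencil κ) m) r) 1 : ℤ) =
      (g : ℤ) - (2 * (m : ℤ) - ((g : ℤ) - 1) * r) := by
  have hg := H.two_le
  obtain _ | r := r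
  · push_cast at hle; omega
  obtain ⟨s, hs⟩ : ∃ s : ℕ, (s : ℤ) = 2 * (m : ℤ) - ((g : ℤ) - 1) * ((r + 1 : ℕ) : ℤ) :=
    ⟨(2 * (m : ℤ) - ((g : ℤ) - 1) * ((r + 1 : ℕ) : ℤ)).toNat, Int.toNat_of_nonneg (by linarith)⟩
  have hsg : s + 1 ≤ g := by push_cast at hle hs; zify; linarith
  obtain ⟨e⟩ := res_pencil H m (r + 1) s hs
  obtain ⟨S, hS, h₁, h₂, h₃, a, b, c, -⟩ := step H (inv_pow κ m) (inv_pow κ m) r
  rw [← b 1, show h k S.X₂ 1 = h k S.X₃ 1 from LES.middle_eq_right k hS h₁ h₂ h₃ 1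
      ((a 1).trans (h1_zero H m hm r (by push_cast at hpos; exact hpos))) ((a 2).trans (h2_zero H m hm r)),
    c 1, show h k (res σ hσp (T N (CohB1.tensorPow (pencil κ) m) (CohB1.tensorPow (pencil κ) m) (r + 1))) 1 =
      h k (CohB1.tensorPow (pencil κ) s) 1 from Snapper.finrank_HH_iso k e 1,
    h1_pow_small H.dim κ H.toSpec_eq H.rank g H.two_le H.genus s hsg, hs]

theorem h0_eq (r : ℕ) : (h k (T N (CohB1.tensorPow (pencil κ) m) (CohB1.tensorPow (pencil κ) m) r) 0 : ℤ) =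
      (2 * (m : ℤ) - ((g : ℤ) - 1)) ^ 2 + 4 * (m : ℤ) * r - ((g : ℤ) - 1) * r * (r + 2) +
        h k (T N (CohB1.tensorPow (pencil κ) m) (CohB1.tensorPow (pencil κ) m) r) 1 := by
  have h1 := euler_eq_three H (inv_pow κ m) (inv_pow κ m) r
  rw [euler_pencil H m r, h2_zero H m hm r] at h1
  push_cast at h1
  linarith

end Groth.Agent.HypSq70
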